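import Groth.Agent.AmpleLib.Relative
import Groth.Agent.AmpleLib.RestrictTensor
import Groth.Prelude.Def_PicGrp

/-!
# The monoid of invertible classes

`PicM X`: invertible classes with the tensor product, a cancellative commutative monoid; `pull` is the functoriality.
-/

set_option autoImplicit false
set_option backward.isDefEq.respectTransparency.types false

universe u

open CategoryTheory CategoryTheory.Limits AlgebraicGeometry TopologicalSpace
open Groth.Agent.Coherent Groth.Agent.PicLib Groth.Agent.AmpleLib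

namespace Groth.Agent.PicLib

variable {X Y : Scheme.{u}}

/-- Invertible isomorphism classes. -/
@[ext]
structure PicM (X : Scheme.{u}) : Type (u + 1) where
  val : PicF.Cl X
  prop : PicF.IsInvertibleCl val

namespace PicM

/-- The class of an invertible module. -/
def of {L : X.Modules} (hL : PicF.IsInvertible L) : PicM X := ⟨PicF.cl L, L, rfl, hL⟩

theorem of_eq_iff {L M : X.Modules} (hL : PicF.IsInvertible L) (hM : PicF.IsInvertible M) :
    of hL = of hM ↔ Nonempty (L ≅ M) := by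
  rw [← PicGrp.cl_eq_cl_iff]
  exact ⟨congrArg PicM.val, fun h => PicM.ext h⟩

theorem exists_eq_of (a : PicM X) : ∃ (L : X.Modules) (hL : PicF.IsInvertible L), a = of hL := by
  obtain ⟨c, L, rfl, hL⟩ := a
  exact ⟨L, hL, rfl⟩

noncomputable instance : Mul (PicM X) :=
  ⟨fun a b => ⟨PicGrp.mulCl a.val b.val, by
    obtain ⟨L, hL, rfl⟩ := exists_eq_of a
    obtain ⟨M, hM, rfl⟩ := exists_eq_of b
    exact ⟨_, rfl, isInvertible_tensorMod hL hM⟩⟩⟩

noncomputable instance : One (PicM X) :=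
  ⟨of (isInvertible_structureModule (X := X))⟩

theorem of_mul {L M : X.Modules} (hL : PicF.IsInvertible L) (hM : PicF.IsInvertible M) :
    of hL * of hM = of (isInvertible_tensorMod hL hM) := rfl

noncomputable instance : CommMonoid (PicM X) where
  mul_assoc a b c := by
    obtain ⟨L, hL, rfl⟩ := exists_eq_of a
    obtain ⟨M, hM, rfl⟩ := exists_eq_of b
    obtain ⟨N, hN, rfl⟩ := exists_eq_of c
    obtain ⟨e, -⟩ := exists_assocIso hL hM hN
    exact PicM.ext ((PicGrp.cl_eq_cl_iff _ _).2 ⟨e⟩)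
  one_mul a := by
    obtain ⟨L, hL, rfl⟩ := exists_eq_of a
    exact PicM.ext ((PicGrp.cl_eq_cl_iff _ _).2 ⟨unitTensorIso L⟩)
  mul_one a := by
    obtain ⟨L, hL, rfl⟩ := exists_eq_of a
    exact PicM.ext ((PicGrp.cl_eq_cl_iff _ _).2 ⟨tensorComm _ _ ≪≫ unitTensorIso L⟩)
  mul_comm a b := by
    obtain ⟨L, hL, rfl⟩ := exists_eq_of a
    obtain ⟨M, hM, rfl⟩ := exists_eq_of b
    exact PicM.ext ((PicGrp.cl_eq_cl_iff _ _).2 ⟨tensorComm _ _⟩)

theorem of_eq_one_iff {L : X.Modules} (hL : PicF.IsInvertible L) :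
    of hL = 1 ↔ Nonempty (L ≅ Coh.structureModule X) := of_eq_iff _ _

theorem of_structureModule (h : PicF.IsInvertible (Coh.structureModule X)) : of h = 1 := rfl

theorem of_tensorPow {L : X.Modules} (hL : PicF.IsInvertible L) :
    ∀ n : ℕ, of (isInvertible_tensorPow hL n) = of hL ^ n
  | 0 => by rw [pow_zero]; rfl
  | n + 1 => by rw [pow_succ, ← of_tensorPow hL n]; rfl

/-- Tensor products of invertible modules cancel. -/
theorem exists_iso_of_tensor_iso {A B L : X.Modules} (hA : PicF.IsInvertible A) (hB : PicF.IsInvertible B)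
    (hL : PicF.IsInvertible L) (φ : CohB1.tensorMod A L ≅ CohB1.tensorMod B L) : Nonempty (A ≅ B) := by
  obtain ⟨Wa, a, hma, ha⟩ := exists_cover hA
  obtain ⟨Wb, b, hmb, hb⟩ := exists_cover hB
  obtain ⟨Wl, l, hml, hl⟩ := exists_cover hL
  let W : X → X.Opens := fun y => Wa y ⊓ Wb y ⊓ Wl y
  have h1 : ∀ y, W y ≤ Wa y := fun y => inf_le_left.trans inf_le_left
  have h2 : ∀ y, W y ≤ Wb y := fun y => inf_le_left.trans inf_le_right
  have h3 : ∀ y, W y ≤ Wl y := fun y => inf_le_right
  have hW : iSup W = ⊤ := top_le_iff.1 fun y _ => Opens.mem_iSup.2 ⟨y, ⟨hma y, hmb y⟩, hml y⟩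
  -- `φ (a ⊗ l) = t ⊗ l` with `t` a generator
  have key : ∀ (U : X.Opens) (a' : Γ(A, U)) (b' : Γ(B, U)) (l' : Γ(L, U)), IsGen A U a' → IsGen B U b' → IsGen L U l' →
      ∃ t : Γ(B, U), IsGen B U t ∧ φ.hom.app U (tmul a' l') = tmul t l' := by
    intro U a' b' l' ga gb gl
    have hbl := isGen_tmul gb gl
    have himg : IsGen (CohB1.tensorMod B L) U (φ.hom.app U (tmul a' l')) := by
      intro V hV
      have hgl := isGen_tmul ga gl V hV
      convert (ConcreteCategory.bijective_of_isIso (φ.hom.app V)).comp hgl using 1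
      funext r
      show r • resM _ hV (φ.hom.app U (tmul a' l')) = φ.hom.app V (r • resM _ hV (tmul a' l'))
      rw [Scheme.Modules.Hom.app_smul, app_resM]
    have hu := hbl.isUnit_coef himg
    refine ⟨(hbl.coef le_rfl (φ.hom.app U (tmul a' l'))) • b', ?_, ?_⟩
    · obtain ⟨w, hw⟩ := hu
      rw [← hw]
      exact gb.smul_unit w
    · have h := hbl.coef_spec le_rfl (φ.hom.app U (tmul a' l'))
      rw [resM_self] at h
      rw [tmul_smul_left]
      exact h.symm
  choose t ht hφ using fun y => key (W y) (resM A (h1 y) (a y)) (resM B (h2 y) (b y)) (resM L (h3 y) (l y))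
    ((ha y).restrict _) ((hb y).restrict _) ((hl y).restrict _)
  obtain ⟨e, -⟩ := exists_iso_of_gens W hW (fun y => resM A (h1 y) (a y)) (fun y => (ha y).restrict _) t ht (by
    intro i j V hi hj c hc
    let li := resM L hi (resM L (h3 i) (l i))
    have hgi : IsGen L V li := ((hl i).restrict (h3 i)).restrict hi
    obtain ⟨d, hd⟩ : ∃ d : Γ(X, V), d • resM L hj (resM L (h3 j) (l j)) = li := by
      have hgj : IsGen L V (resM L hj (resM L (h3 j) (l j))) := ((hl j).restrict (h3 j)).restrict hj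
      exact ⟨hgj.coef le_rfl li, by simpa only [resM_self] using hgj.coef_spec le_rfl li⟩
    have ei := congrArg (resM (CohB1.tensorMod B L) hi) (hφ i)
    have ej := congrArg (resM (CohB1.tensorMod B L) hj) (hφ j)
    simp only [← app_resM, resM_tmul] at ei ej
    have e1 : tmul (resM B hi (t i)) li = tmul (c • resM B hj (t j)) li := by
      rw [← ei, hc, tmul_smul_left, Scheme.Modules.Hom.app_smul, tmul_smul_left]
      show c • φ.hom.app V (tmul _ li) = c • tmul _ li
      congr 1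
      rw [← hd, tmul_smul_right, Scheme.Modules.Hom.app_smul, ej, tmul_smul_right]
    exact ((bijective_tmul_gen (M := B) hgi V le_rfl).1 (by simpa only [resM_self] using e1)))
  exact ⟨e⟩

theorem mul_right_cancel' {a b c : PicM X} (h : a * c = b * c) : a = b := by
  obtain ⟨A, hA, rfl⟩ := exists_eq_of a
  obtain ⟨B, hB, rfl⟩ := exists_eq_of b
  obtain ⟨L, hL, rfl⟩ := exists_eq_of c
  rw [of_mul, of_mul, of_eq_iff] at h
  obtain ⟨φ⟩ := h
  exact (of_eq_iff _ _).2 (exists_iso_of_tensor_iso hA hB hL φ)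

noncomputable instance : CancelCommMonoid (PicM X) :=
  { (inferInstance : CommMonoid (PicM X)) with
    mul_left_cancel := fun a b c h => mul_right_cancel' (c := a) (by simpa only [mul_comm] using h) }

/-- Pullback of invertible classes. -/
noncomputable def pull (g : Y ⟶ X) : PicM X →* PicM Y where
  toFun a := ⟨PicF.pullCl g a.val, PicLoc.isInvertibleCl_pullCl g a.prop⟩
  map_one' := PicM.ext ((PicGrp.cl_eq_cl_iff _ _).2 (exists_pullStructureIso g))
  map_mul' a b := by
    obtain ⟨L, hL, rfl⟩ := exists_eq_of a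
    obtain ⟨M, hM, rfl⟩ := exists_eq_of b
    exact PicM.ext ((PicGrp.cl_eq_cl_iff _ _).2 (exists_pullTensorIso g hL hM))

theorem pull_of (g : Y ⟶ X) {L : X.Modules} (hL : PicF.IsInvertible L) :
    pull g (of hL) = of (PicLoc.isInvertible_pullback g hL) := rfl

theorem pull_pull {Z : Scheme.{u}} (g : Y ⟶ X) (f : Z ⟶ Y) (a : PicM X) :
    pull f (pull g a) = pull (f ≫ g) a := PicM.ext (PicLoc.pullCl_comp f g a.val).symm

theorem pull_id (a : PicM X) : pull (𝟙 X) a = a := PicM.ext (PicLoc.pullCl_id a.val)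

/-- The classes on the spectrum of a field are trivial. -/
theorem eq_one_of_field (K : Type u) [Field K] (a : PicM (Spec (CommRingCat.of K))) : a = 1 := by
  obtain ⟨L, hL, rfl⟩ := exists_eq_of a
  obtain ⟨U, hx, s, hs⟩ := exists_isGen hL (default : Spec (CommRingCat.of K))
  obtain rfl : U = ⊤ := top_le_iff.1 fun y _ => (Subsingleton.elim (default : Spec (CommRingCat.of K)) y) ▸ hx
  have : IsIso (unitDesc L s) := isIso_of_isGen _ (by rw [unitVal_unitDesc, resM_self]; exact hs)
  exact (of_eq_one_iff hL).2 ⟨(asIso (unitDesc L s)).symm⟩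

/-- If `A ⊗ M` is invertible with `A` invertible, so is `M`. -/
theorem isInvertible_of_tensor {A M : X.Modules} (hA : PicF.IsInvertible A)
    (h : PicF.IsInvertible (CohB1.tensorMod A M)) : PicF.IsInvertible M := by
  intro y
  obtain ⟨U₁, h₁, ⟨e₁⟩⟩ := hA y
  obtain ⟨U₂, h₂, g, hg⟩ := exists_isGen h y
  have h' : PicF.IsInvertible (CohB1.tensorMod M A) := by
    intro z
    obtain ⟨W, hz, ⟨e⟩⟩ := h z
    exact ⟨W, hz, ⟨(Scheme.Modules.restrictFunctor W.ι).mapIso (tensorComm M A) ≪≫ e⟩⟩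
  obtain ⟨U, hyU, ⟨e⟩⟩ := h' y
  let W := U₁ ⊓ U
  have hW : W.ι = X.homOfLE (inf_le_left : W ≤ U₁) ≫ U₁.ι := (Scheme.homOfLE_ι _ _).symm
  have := isIso_restrictTensorHom W.ι M A hA
  have hMW : PicF.IsInvertible ((CohB1.tensorMod M A).restrict W.ι) :=
    fun z => by
      obtain ⟨V, hz, ⟨e'⟩⟩ := PicLoc.isInvertible_pullback W.ι h' z
      exact ⟨V, hz, ⟨(Scheme.Modules.restrictFunctor V.ι).mapIso ((Scheme.Modules.restrictFunctorIsoPullback W.ι).app _) ≪≫ e'⟩⟩
  obtain ⟨s, hs⟩ := exists_isGen_of_iso e₁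
  have hAW : A.restrict W.ι ≅ Coh.structureModule (W : Scheme.{u}) := by
    refine (Scheme.Modules.restrictFunctorCongr hW ≪≫
      Scheme.Modules.restrictFunctorComp (X.homOfLE (inf_le_left : W ≤ U₁)) U₁.ι).app A ≪≫
      (Scheme.Modules.restrictFunctor (X.homOfLE (inf_le_left : W ≤ U₁))).mapIso e₁ ≪≫
      (Scheme.Modules.restrictFunctorIsoPullback _).app _ ≪≫ PicLoc.pullbackStructureIso _
  let eM : M.restrict W.ι ≅ (CohB1.tensorMod M A).restrict W.ι :=
    (unitTensorIso (M.restrict W.ι)).symm ≪≫ tensorComm _ _ ≪≫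
      tensorIso (Iso.refl _) hAW.symm ≪≫ asIso (restrictTensorHom W.ι M A)
  obtain ⟨V, hV, ⟨e'⟩⟩ := hMW ⟨y, h₁, hyU⟩
  refine ⟨W.ι ''ᵁ V, ⟨_, hV, rfl⟩, ⟨?_⟩⟩
  let j : (W.ι ''ᵁ V).toScheme ≅ V.toScheme := (W.ι.isoImage V).symm
  have hj : (W.ι ''ᵁ V).ι = j.hom ≫ V.ι ≫ W.ι := by
    simp [j]
  exact (Scheme.Modules.restrictFunctorCongr hj ≪≫ Scheme.Modules.restrictFunctorComp j.hom (V.ι ≫ W.ι) ≪≫
      Functor.isoWhiskerRight (Scheme.Modules.restrictFunctorComp V.ι W.ι) (Scheme.Modules.restrictFunctor j.hom)).app M ≪≫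
    (Scheme.Modules.restrictFunctor j.hom).mapIso ((Scheme.Modules.restrictFunctor V.ι).mapIso eM ≪≫ e') ≪≫
    (Scheme.Modules.restrictFunctorIsoPullback _).app _ ≪≫ PicLoc.pullbackStructureIso _

end PicM

end Groth.Agent.PicLib
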