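import Groth.Agent.PicLib.PicMonoid
import Groth.Agent.VarietyLib.Dual

/-!
# The group of invertible classes
-/

set_option autoImplicit false
set_option backward.isDefEq.respectTransparency.types false

universe u

open CategoryTheory AlgebraicGeometry

namespace Groth.Agent.PicLib.PicM

variable {X : Scheme.{u}}

theorem exists_mul_eq_one (a : PicM X) : ∃ b, a * b = 1 := by
  obtain ⟨L, hL, rfl⟩ := exists_eq_of a
  obtain ⟨M, ⟨e⟩⟩ := VarietyLib.exists_isInverseOf hL
  have hM : PicF.IsInvertible M := isInvertible_of_tensor hL (by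
    intro y
    obtain ⟨U, hy, ⟨e'⟩⟩ := (AmpleLib.isInvertible_structureModule (X := X)) y
    exact ⟨U, hy, ⟨(Scheme.Modules.restrictFunctor U.ι).mapIso e ≪≫ e'⟩⟩)
  exact ⟨of hM, (of_mul hL hM).trans ((of_eq_one_iff _).2 ⟨e⟩)⟩

theorem isUnit (a : PicM X) : IsUnit a :=
  isUnit_iff_exists_inv.2 (exists_mul_eq_one a)

theorem eq_of_mul_inv {a b : PicM X} {c : PicM X} (hc : b * c = 1) (h : a * c = 1) : a = b :=
  (isUnit c).mul_left_injective (h.trans hc.symm)

end Groth.Agent.PicLib.PicM
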