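import Groth.Agent.Coherent.FlatBaseChangeMain
import Mathlib.AlgebraicGeometry.Morphisms.Flat

/-!
# Flat base change of global sections, with the formula
-/

set_option autoImplicit false
set_option backward.isDefEq.respectTransparency false

universe u

open CategoryTheory CategoryTheory.Limits AlgebraicGeometry Opposite TopologicalSpace TensorProduct
open Groth.Agent.Coherent Groth.Agent.PicLib

namespace Groth.Agent.PicLib

variable {X X' : Scheme.{u}} (g : X' ⟶ X) {A B : Type u} [CommRing A] [CommRing B] [Algebra A B]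
  (φ : A →+* Γ(X, ⊤)) (β : B →+* Γ(X', ⊤)) (M : X.Modules)
  (hcomm : ∀ a, g.appTop (φ a) = β (algebraMap A B a))

/-- Degree zero cohomology over the whole space is the module of global sections. -/
noncomputable def secTop : HA φ M ⊤ 0 ≃+ Γ(M, ⊤) :=
  secH (X := X.toTopCat) (Coh.toAb M) (⊤ : X.Opens)

theorem secTop_smul (a : A) (x : HA φ M ⊤ 0) : secTop φ M (a • x) = φ a • secTop φ M x := by
  refine ((secH_postH (X := X.toTopCat) (smulEndAb M (φ a)) (⊤ : X.Opens) x).trans (smulEndAb_app M (φ a) ⊤ _)).trans ?_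
  refine congrArg (fun t : Γ(X, ⊤) => t • secTop φ M x) ?_
  exact congr($(X.presheaf.map_id (op ⊤)) (φ a))

include hcomm in
/-- Flat base change of global sections. -/
theorem exists_baseChange_sections [CompactSpace X] [QuasiSeparatedSpace X] [Module.Flat A B] [IsAffineHom g]
    [Coh.IsQCoh M] (hp : ∀ U, IsAffineOpen U → IsBCPushout g φ β U) :
    ∃ E : B ⊗[A] HA φ M ⊤ 0 ≃+ Γ((Scheme.Modules.pullback g).obj M, ⊤),
      ∀ (b : B) (x : HA φ M ⊤ 0), E (b ⊗ₜ x) =
        β b • (show Γ((Scheme.Modules.pullback g).obj M, ⊤) from pullSec g (secTop φ M x)) := by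
  let T := LinearEquiv.ofBijective (bcMap g φ β M hcomm ⊤ 0) (bijective_bcMap g φ β M hcomm hp (U := ⊤) isCompact_univ 0)
  let S : BCMod g M β (⊤ : X.Opens) 0 ≃+ Γ((Scheme.Modules.pullback g).obj M, ⊤) :=
    secH (X := X.toTopCat) (Coh.toAb (bcPush g M)) (⊤ : X.Opens)
  refine ⟨T.toAddEquiv.trans S, fun b x => ?_⟩
  show S (bcMap g φ β M hcomm ⊤ 0 (b ⊗ₜ x)) = _
  rw [bcMap, LinearMap.liftBaseChange_tmul]
  refine ((secH_postH (X := X.toTopCat) (bcAct g β M b) (⊤ : X.Opens) _).trans (bcAct_app g β M b ⊤ _)).trans ?_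
  refine congrArg₂ (fun (r : Γ(X', ⊤)) (t : Γ((Scheme.Modules.pullback g).obj M, ⊤)) => r • t) ?_ ?_
  · exact congr($(X'.presheaf.map_id (op ⊤)) (β b))
  · exact secH_postH (X := X.toTopCat) _ (⊤ : X.Opens) x

/-- Flat base change of `Γ(O) = Γ(base)`. -/
theorem bijective_appTop_of_isPullback {P X : Scheme.{u}} {R B : CommRingCat.{u}} (g : P ⟶ X) (q : P ⟶ Spec B)
    (π : X ⟶ Spec R) (h : Spec B ⟶ Spec R) [Flat h] (H : IsPullback g q π h) [CompactSpace X]
    [QuasiSeparatedSpace X] (hπ : Function.Bijective π.appTop) : Function.Bijective q.appTop := by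
  have hi := isIso_pushoutSection_of_isQuasiSeparated_of_flat_right H (US := ⊤) (UT := ⊤) (UX := ⊤) (UY := ⊤)
    (by simp) (by simp) (by simp) (isAffineOpen_top _) (isAffineOpen_top _) isCompact_univ
    isQuasiSeparated_univ
  have hp := (isIso_pushoutSection_iff ..).1 hi
  have hI : IsIso (π.appLE ⊤ ⊤ (by simp)) := by
    rw [ConcreteCategory.isIso_iff_bijective]
    simpa [Scheme.Hom.appLE, Scheme.Hom.appTop] using hπ
  have := hp.isIso_inr_of_isIso hI
  have h2 := ConcreteCategory.bijective_of_isIso (q.appLE ⊤ ⊤ le_rfl)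
  simpa [Scheme.Hom.appLE, Scheme.Hom.appTop] using h2

end Groth.Agent.PicLib
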