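import Groth.Agent.PicLib.PullbackGen
import Groth.Agent.Props12.FinLocFree

/-!
# Local bases of finite locally free modules and their inverse images

`IsBasisOn L U e`: the sections `e i` form a basis of `L` on every open inside `U`. The inverse image of such a basis is
one; hence the unit `N → σ_* σ^* N` is bijective for `N` finite locally free as soon as `σ^♯` is bijective.
-/

set_option autoImplicit false
set_option backward.isDefEq.respectTransparency.types false

universe u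

open CategoryTheory CategoryTheory.Limits AlgebraicGeometry Opposite TopologicalSpace
open Groth.Agent.Coherent Groth.Agent.PicLib

namespace Groth.Agent.PicLib

variable {X Y : Scheme.{u}} {I : Type u} [Fintype I]

/-- The sections `e i` form a basis on every open inside `U`. -/
def IsBasisOn (L : X.Modules) (U : X.Opens) (e : I → Γ(L, U)) : Prop :=
  ∀ ⦃V : X.Opens⦄ (h : V ≤ U), Function.Bijective fun c : I → Γ(X, V) => ∑ i, c i • resM L h (e i)

namespace IsBasisOn

variable {L : X.Modules} {U : X.Opens} {e : I → Γ(L, U)} (hb : IsBasisOn L U e)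

/-- The coordinates of a section. -/
noncomputable def coef {V : X.Opens} (h : V ≤ U) (x : Γ(L, V)) : I → Γ(X, V) := ((hb h).2 x).choose

theorem coef_spec {V : X.Opens} (h : V ≤ U) (x : Γ(L, V)) : ∑ i, hb.coef h x i • resM L h (e i) = x :=
  ((hb h).2 x).choose_spec

theorem coef_eq {V : X.Opens} (h : V ≤ U) {x : Γ(L, V)} {c : I → Γ(X, V)} (hc : ∑ i, c i • resM L h (e i) = x) :
    hb.coef h x = c := (hb h).1 ((hb.coef_spec h x).trans hc.symm)

theorem coef_res {V W : X.Opens} (h : V ≤ U) (h' : W ≤ V) (x : Γ(L, V)) :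
    hb.coef (h'.trans h) (resM L h' x) = fun i => X.presheaf.map (homOfLE h').op (hb.coef h x i) := by
  refine hb.coef_eq _ ?_
  conv_rhs => rw [← hb.coef_spec h x]
  rw [map_sum]
  exact Finset.sum_congr rfl fun i _ => by rw [resM_smul, resM_resM]

theorem coef_add {V : X.Opens} (h : V ≤ U) (x y : Γ(L, V)) : hb.coef h (x + y) = hb.coef h x + hb.coef h y := by
  refine hb.coef_eq _ ?_
  simp only [Pi.add_apply, add_smul, Finset.sum_add_distrib, hb.coef_spec]

theorem coef_smul {V : X.Opens} (h : V ≤ U) (a : Γ(X, V)) (x : Γ(L, V)) :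
    hb.coef h (a • x) = fun i => a * hb.coef h x i := by
  refine hb.coef_eq _ ?_
  simp only [mul_smul, ← Finset.smul_sum, hb.coef_spec]

theorem coef_self [DecidableEq I] {V : X.Opens} (h : V ≤ U) (k : I) :
    hb.coef h (resM L h (e k)) = fun i => if i = k then 1 else 0 := by
  refine hb.coef_eq _ ?_
  simp [ite_smul]

end IsBasisOn

theorem exists_isBasisOn {N : X.Modules} (hN : FlatMod.IsFinLocFree N) (y : X) :
    ∃ (U : X.Opens) (n : ℕ) (e : ULift.{u} (Fin n) → Γ(N, U)), y ∈ U ∧ IsBasisOn N U e := by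
  classical
  obtain ⟨U₀, n, hy, ⟨e⟩⟩ := hN y
  let ψ := e ≪≫ (Props12.freeModIso U₀.toScheme n).symm
  let v : ∀ W : U₀.toScheme.Opens, ULift.{u} (Fin n) → Γ(N, U₀.ι ''ᵁ W) := fun W i =>
    (N.restrictAppIso U₀.ι W).hom (unitVal (freeInj i ≫ ψ.inv) W)
  refine ⟨U₀.ι ''ᵁ ⊤, n, v ⊤, (Scheme.Opens.ι_image_top U₀).ge hy, fun V hV => ?_⟩
  obtain ⟨W, rfl⟩ : ∃ W : U₀.toScheme.Opens, U₀.ι ''ᵁ W = V := by
    refine ⟨U₀.ι ⁻¹ᵁ V, ?_⟩
    rw [U₀.ι.image_preimage_eq_opensRange_inf, Scheme.Opens.opensRange_ι, inf_eq_right]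
    exact hV.trans (Scheme.Opens.ι_image_top U₀).le
  have hres : ∀ i, resM N hV (v ⊤ i) = v W i := fun i => by
    show resM N hV ((N.restrictAppIso U₀.ι ⊤).hom (unitVal _ ⊤)) = (N.restrictAppIso U₀.ι W).hom (unitVal _ W)
    rw [← resM_unitVal (freeInj i ≫ ψ.inv) (le_top : W ≤ ⊤)]
    rfl
  have h1 := ConcreteCategory.bijective_of_isIso (U₀.ι.appIso W).hom
  have h2 := (freeSectionsEquiv (X := U₀.toScheme) (I := ULift.{u} (Fin n)) W).symm.bijective
  have h3 := ConcreteCategory.bijective_of_isIso (C := AddCommGrpCat) (ψ.inv.app W)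
  have h4 := ConcreteCategory.bijective_of_isIso (N.restrictAppIso U₀.ι W).hom
  have h1' : Function.Bijective (fun c : ULift.{u} (Fin n) → Γ(X, U₀.ι ''ᵁ W) => fun i => (U₀.ι.appIso W).hom (c i)) :=
    Function.Bijective.piMap fun _ => h1
  convert h4.comp (h3.comp (h2.comp h1')) using 1
  funext c
  simp only [Function.comp_apply, hres]
  rw [freeMod_app, map_sum]
  refine Finset.sum_congr rfl fun i _ => ?_
  refine Eq.trans ?_ (Scheme.Modules.smul_restrictAppIso_hom_apply U₀.ι N W _ _).symm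
  congr 1
  show c i = (U₀.ι.appIso W).inv (freeSectionsEquiv W ((freeSectionsEquiv W).symm _) i)
  rw [LinearEquiv.apply_symm_apply, ← ConcreteCategory.comp_apply, Iso.hom_inv_id]
  rfl

theorem restrict_unitDesc_app (P : X.Modules) (U' : X.Opens) (V : U'.toScheme.Opens) (a : Γ(U'.toScheme, V))
    (y : Γ(P, U'.ι ''ᵁ ⊤)) :
    (show Γ(P, U'.ι ''ᵁ V) from (unitDesc (P.restrict U'.ι) (show Γ(P.restrict U'.ι, ⊤) from y)).app V a) =
      (U'.ι.appIso V).inv a • resM P (U'.ι.image_mono le_top) y := by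
  refine (app_unit _ a).trans ?_
  rw [unitVal_unitDesc]
  rfl

variable (σ : X ⟶ Y) {N : Y.Modules} {U : Y.Opens} {e : I → Γ(N, U)} (hb : IsBasisOn N U e)
include hb

/-- Coordinate functions on `σ^* N` over `σ ⁻¹ U`. -/
theorem exists_pullback_coordinates (i : I) :
    ∃ ψ : (Scheme.Modules.pullback σ).obj N ⟶
        (Scheme.Modules.pushforward (σ ⁻¹ᵁ U).ι).obj (Coh.structureModule (σ ⁻¹ᵁ U).toScheme),
      ∀ (V : Y.Opens) (x : Γ(N, V)),
        (show Γ((σ ⁻¹ᵁ U).toScheme, (σ ⁻¹ᵁ U).ι ⁻¹ᵁ (σ ⁻¹ᵁ V)) from ψ.app (σ ⁻¹ᵁ V) (pullSec σ x)) =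
          ((σ ⁻¹ᵁ U).ι ≫ σ).appLE (V ⊓ U) _ (fun z hz => ⟨hz, z.2⟩)
            (hb.coef inf_le_right (resM N inf_le_left x) i) := by
  let j := (σ ⁻¹ᵁ U).ι ≫ σ
  let M := (Scheme.Modules.pushforward σ).obj ((Scheme.Modules.pushforward (σ ⁻¹ᵁ U).ι).obj
    (Coh.structureModule (σ ⁻¹ᵁ U).toScheme))
  have hle : ∀ W : Y.Opens, j ⁻¹ᵁ W ≤ j ⁻¹ᵁ (W ⊓ U) := fun W z hz => ⟨hz, z.2⟩
  let f : ∀ W : Y.Opens, Γ(N, W) → Γ((σ ⁻¹ᵁ U).toScheme, j ⁻¹ᵁ W) := fun W x =>
    j.appLE (W ⊓ U) (j ⁻¹ᵁ W) (hle W) (hb.coef inf_le_right (resM N inf_le_left x) i)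
  have hnat : ∀ {V W : Y.Opens} (h : W ≤ V) (x : Γ(N, V)), f W (resM N h x) =
      res ((Opens.map j.base).map (homOfLE h)).le (f V x) := by
    intro V W h x
    show j.appLE _ _ _ (hb.coef _ (resM N _ (resM N h x)) i) = res _ (j.appLE _ _ _ _)
    rw [resM_resM, ← resM_resM N inf_le_left (inf_le_inf_right U h) x,
      congrFun (hb.coef_res inf_le_right (inf_le_inf_right U h) _) i]
    show (Y.presheaf.map _ ≫ j.appLE _ _ _) _ = (j.appLE _ _ _ ≫ ((σ ⁻¹ᵁ U).toScheme).presheaf.map _) _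
    rw [Scheme.Hom.map_appLE, Scheme.Hom.appLE_map]
  have hadd : ∀ (W : Y.Opens) (x y : Γ(N, W)), f W (x + y) = f W x + f W y := fun W x y => by
    show j.appLE _ _ _ _ = j.appLE _ _ _ _ + j.appLE _ _ _ _
    rw [map_add, congrFun (hb.coef_add _ _ _) i, Pi.add_apply, map_add]
  have hlin : ∀ (W : Y.Opens) (r : Γ(Y, W)) (x : Γ(N, W)), f W (r • x) = j.app W r * f W x := fun W r x => by
    show j.appLE _ _ _ _ = _ * j.appLE _ _ _ _
    rw [resM_smul, congrFun (hb.coef_smul _ _ _) i, map_mul]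
    refine congrArg (· * _) ?_
    show (Y.presheaf.map _ ≫ j.appLE _ _ _) _ = j.app _ _
    rw [Scheme.Hom.map_appLE, Scheme.Hom.appLE_eq_app]
  let fA : ∀ W : Y.Opens, Γ(N, W) →+ Γ(M, W) := fun W =>
    AddMonoidHom.mk' (fun x => (show Γ(M, W) from f W x)) (hadd W)
  let φ₀ : N.val ⟶ M.val := PresheafOfModules.homMk
    { app := fun W => AddCommGrpCat.ofHom (fA W.unop)
      naturality := fun V W g => ConcreteCategory.hom_ext _ _ fun x => hnat (leOfHom g.unop) x }
    (fun W r x => hlin W.unop r x)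
  let φ : N ⟶ M := ⟨φ₀⟩
  refine ⟨((Scheme.Modules.pullbackPushforwardAdjunction σ).homEquiv _ _).symm φ, fun V x => ?_⟩
  rw [homEquiv_symm_app_pullSec]
  rfl

/-- The inverse image of a basis is a basis. -/
theorem IsBasisOn.pull :
    IsBasisOn ((Scheme.Modules.pullback σ).obj N) (σ ⁻¹ᵁ U) fun i => pullSec σ (e i) := by
  classical
  choose ψ hψ using fun i => exists_pullback_coordinates σ hb i
  let U' := σ ⁻¹ᵁ U
  let P := (Scheme.Modules.pullback σ).obj N
  let T := (Scheme.Modules.pushforward U'.ι).obj (P.restrict U'.ι)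
  let r : P ⟶ T := (Scheme.Modules.restrictAdjunction U'.ι).unit.app P
  have htop : U'.ι ''ᵁ ⊤ ≤ U' := (Scheme.Opens.ι_image_top U').le
  let α : P ⟶ T := ∑ i, ψ i ≫ (Scheme.Modules.pushforward U'.ι).map
    (unitDesc (P.restrict U'.ι) (resM P htop (pullSec σ (e i))))
  have hα : α = r := by
    refine ((Scheme.Modules.pullbackPushforwardAdjunction σ).homEquiv _ _).injective ?_
    refine Scheme.Modules.hom_ext _ _ fun V => ConcreteCategory.hom_ext _ _ fun x => ?_
    show α.app (σ ⁻¹ᵁ V) (pullSec σ x) = r.app (σ ⁻¹ᵁ V) (pullSec σ x)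
    let W' : X.Opens := U'.ι ''ᵁ (U'.ι ⁻¹ᵁ (σ ⁻¹ᵁ V))
    have hW₁ : W' ≤ σ ⁻¹ᵁ V := U'.ι.image_preimage_le _
    have hW₂ : W' ≤ U' := (U'.ι.image_mono le_top).trans htop
    have hW : W' ≤ σ ⁻¹ᵁ (V ⊓ U) := le_inf hW₁ hW₂
    rw [app_sum]
    refine Eq.trans ?_ (show resM P hW₁ (pullSec σ x) = r.app (σ ⁻¹ᵁ V) (pullSec σ x) from rfl)
    have hx := hb.coef_spec inf_le_right (resM N (inf_le_left : V ⊓ U ≤ V) x)
    have hx' := congrArg (fun z => resM ((Scheme.Modules.pullback σ).obj N) hW (pullSec σ z)) hx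
    have hps : ∀ (s : Finset I) (g : I → Γ(N, V ⊓ U)), pullSec σ (∑ i ∈ s, g i) = ∑ i ∈ s, pullSec σ (g i) :=
      fun s g => map_sum (((Scheme.Modules.pullbackPushforwardAdjunction σ).unit.app N).app (V ⊓ U)).hom g s
    simp only [hps, map_sum, pullSec_smul, resM_smul, ← resM_pullSec, resM_resM] at hx'
    refine Eq.trans ?_ hx'
    refine Finset.sum_congr rfl fun i _ => ?_
    show (unitDesc (P.restrict U'.ι) (resM P htop (pullSec σ (e i)))).app (U'.ι ⁻¹ᵁ (σ ⁻¹ᵁ V))
      ((ψ i).app (σ ⁻¹ᵁ V) (pullSec σ x)) = _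
    refine (restrict_unitDesc_app P U' _ _ _).trans ?_
    rw [← ConcreteCategory.comp_apply (σ.app (V ⊓ U))]
    congr 1
    · refine (congrArg (U'.ι.appIso (U'.ι ⁻¹ᵁ (σ ⁻¹ᵁ V))).inv (hψ i V x)).trans ?_
      rw [← ConcreteCategory.comp_apply]
      congr 2
      simp [Scheme.Hom.appLE, Scheme.Hom.comp_app, U', W']
      erw [Category.comp_id, ← Functor.map_comp]
      rfl
    · exact resM_resM P htop _ _
  intro W hW
  constructor
  · intro c c' h
    funext k
    have h' := congrArg (fun z : Γ(P, W) =>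
      (show Γ(U'.toScheme, U'.ι ⁻¹ᵁ W) from (ψ k).app W z)) h
    have hval : ∀ i, (show Γ(U'.toScheme, U'.ι ⁻¹ᵁ W) from (ψ k).app W (resM P hW (pullSec σ (e i)))) =
        if k = i then 1 else 0 := fun i => by
      rw [app_resM]
      show res ((Opens.map U'.ι.base).map (homOfLE hW)).le _ = _
      refine (congrArg _ (hψ k U (e i))).trans ?_
      rw [congrFun (hb.coef_self inf_le_right i) k]
      split_ifs <;> simp
    have hlin : ∀ d : I → Γ(X, W), (show Γ(U'.toScheme, U'.ι ⁻¹ᵁ W) from (ψ k).app W (∑ i, d i • resM P hW (pullSec σ (e i)))) =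
        U'.ι.app W (d k) := fun d => by
      refine (map_sum ((ψ k).app W).hom _ _).trans ?_
      rw [Finset.sum_eq_single k]
      · refine (Scheme.Modules.Hom.app_smul (ψ k) _ _).trans ?_
        show U'.ι.app W (d k) * _ = _
        exact (congrArg _ ((hval k).trans (if_pos rfl))).trans (mul_one _)
      · intro i _ hi
        refine (Scheme.Modules.Hom.app_smul (ψ k) _ _).trans ?_
        show U'.ι.app W (d i) * _ = _
        exact (congrArg _ ((hval i).trans (if_neg (Ne.symm hi)))).trans (mul_zero _)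
      · exact fun h => absurd (Finset.mem_univ k) h
    replace h' : U'.ι.app W (c k) = U'.ι.app W (c' k) := ((hlin c).symm.trans h').trans (hlin c')
    have : IsIso (U'.ι.app W) := U'.ι.isIso_app _ (by rw [Scheme.Opens.opensRange_ι]; exact hW)
    exact (ConcreteCategory.bijective_of_isIso (U'.ι.app W)).1 h'
  · intro x
    have hle : W ≤ U'.ι ''ᵁ (U'.ι ⁻¹ᵁ W) := by
      rw [U'.ι.image_preimage_eq_opensRange_inf, Scheme.Opens.opensRange_ι]; exact le_inf hW le_rfl
    have h : α.app W x = r.app W x := congrArg (fun g => g.app W x) hα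
    rw [app_sum] at h
    refine ⟨fun i => X.presheaf.map (homOfLE hle).op ((U'.ι.appIso (U'.ι ⁻¹ᵁ W)).inv ((ψ i).app W x)), ?_⟩
    have h2 := congrArg (resM P hle) (h.trans
      (show r.app W x = resM P (U'.ι.image_preimage_le W) x from rfl))
    rw [resM_resM, resM_self] at h2
    refine Eq.trans (Eq.trans (Finset.sum_congr rfl fun i _ => ?_) (map_sum (resM P hle) _ _).symm) h2
    symm
    show resM P hle ((unitDesc (P.restrict U'.ι) (resM P htop (pullSec σ (e i)))).app (U'.ι ⁻¹ᵁ W) ((ψ i).app W x)) = _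
    refine (congrArg (resM P hle) (restrict_unitDesc_app P U' _ _ _)).trans ?_
    rw [resM_smul]
    congr 1
    exact (resM_resM P _ _ _).trans (resM_resM P _ _ _)

omit hb

/-- If `σ^♯` is bijective, so is the unit of the adjunction on a finite locally free module. -/
theorem bijective_pullSec_of_isFinLocFree (hσ : ∀ V : Y.Opens, Function.Bijective (σ.app V))
    (hN : FlatMod.IsFinLocFree N) (U : Y.Opens) : Function.Bijective (pullSec σ : Γ(N, U) → _) := by
  choose W n z hmem hz using exists_isBasisOn hN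
  let F := (Scheme.Modules.pushforward σ).obj ((Scheme.Modules.pullback σ).obj N)
  let η : N ⟶ F := (Scheme.Modules.pullbackPushforwardAdjunction σ).unit.app N
  have hloc : ∀ (y : Y) (V : Y.Opens) (h : V ≤ W y), Function.Bijective (pullSec σ : Γ(N, V) → _) := by
    intro y V h
    have h1 := (hz y).pull σ (V := σ ⁻¹ᵁ V) ((Opens.map σ.base).map (homOfLE h)).le
    have h0 := hz y h
    refine (Function.Bijective.of_comp_iff _ h0).1 ?_
    convert h1.comp (Function.Bijective.piMap fun _ => hσ V) using 1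
    funext c
    refine (map_sum (η.app V).hom _ _).trans ?_
    refine Finset.sum_congr rfl fun i _ => (pullSec_smul σ _ _).trans ?_
    rw [← resM_pullSec]
    rfl
  have hcov : ∀ V : Y.Opens, V ≤ ⨆ y, V ⊓ W y := fun V x hx => Opens.mem_iSup.2 ⟨x, hx, hmem x⟩
  have hinj : ∀ V : Y.Opens, Function.Injective (pullSec σ : Γ(N, V) → _) := by
    intro V a b hab
    refine TopCat.Sheaf.eq_of_locally_eq' (⟨N.presheaf, N.isSheaf⟩ : TopCat.Sheaf Ab Y)
      (fun y => V ⊓ W y) V (fun y => homOfLE inf_le_left) (hcov V) a b fun y => (hloc y _ inf_le_right).1 ?_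
    exact ((resM_pullSec σ inf_le_left a).symm.trans (congrArg _ hab)).trans (resM_pullSec σ inf_le_left b)
  refine ⟨hinj U, fun t => ?_⟩
  let t' : Γ(F, U) := t
  choose x hx using fun y => (hloc y (U ⊓ W y) inf_le_right).2 (resM F (inf_le_left : U ⊓ W y ≤ U) t')
  obtain ⟨a, ha⟩ : ∃ a : Γ(N, U), ∀ y, resM N (inf_le_left : U ⊓ W y ≤ U) a = x y := by
    refine (TopCat.Sheaf.existsUnique_gluing' (⟨N.presheaf, N.isSheaf⟩ : TopCat.Sheaf Ab Y)
      (fun y => U ⊓ W y) U (fun y => homOfLE inf_le_left) (hcov U) x (fun y y' => hinj _ ?_)).exists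
    show η.app _ (resM N _ (x y)) = η.app _ (resM N _ (x y'))
    rw [app_resM, app_resM]
    show resM F _ (pullSec σ (x y)) = resM F _ (pullSec σ (x y'))
    rw [hx, hx]
    exact (resM_resM F _ _ t').trans (resM_resM F _ _ t').symm
  refine ⟨a, TopCat.Sheaf.eq_of_locally_eq' (⟨F.presheaf, F.isSheaf⟩ : TopCat.Sheaf Ab Y)
      (fun y => U ⊓ W y) U (fun y => homOfLE inf_le_left) (hcov U) _ t' fun y => ?_⟩
  show resM F inf_le_left (η.app U a) = resM F inf_le_left t'
  rw [← app_resM, ha y]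
  exact hx y

end Groth.Agent.PicLib
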