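import Groth.Agent.PicLib.FlatSections
import Groth.Agent.PicLib.BasisOn
import Groth.Agent.PicLib.PicMonoid
import Groth.Agent.AmpleLib.Ample

/-!
# Invertible modules coming from the base, flat locally on the base

If `f : X ⟶ S` is quasi-compact quasi-separated with `O_S = f_* O_X` and an invertible `L` becomes the inverse image
of an invertible module on the base after flat base changes detecting closed subsets of `S`, then `L = f^* f_* L`.
-/

set_option autoImplicit false
set_option backward.isDefEq.respectTransparency.types false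

universe u

open CategoryTheory CategoryTheory.Limits AlgebraicGeometry Opposite TopologicalSpace TensorProduct
open Groth.Agent.Coherent Groth.Agent.PicLib Groth.Agent.AmpleLib

namespace Groth.Agent.PicLib

/-- If `B ⊗ M = B`, the coordinate of `m` vanishes at `q` iff `m` vanishes in the fibre of `M` below `q`. -/
theorem coord_mem_iff {R B M : Type u} [CommRing R] [CommRing B] [Algebra R B] [AddCommGroup M] [Module R M]
    (Φ : B ⊗[R] M ≃ₗ[B] B) (q : PrimeSpectrum B) (m : M) :
    Φ (1 ⊗ₜ m) ∈ q.asIdeal ↔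
      ((1 : (q.comap (algebraMap R B)).asIdeal.ResidueField) ⊗ₜ[R] m) = 0 := by
  let K := q.asIdeal.ResidueField
  let p := (q.comap (algebraMap R B)).asIdeal
  let ψ : K ⊗[R] M ≃ₗ[K] K :=
    (AlgebraTensorModule.cancelBaseChange R B K K M).symm ≪≫ₗ LinearEquiv.baseChange B K _ _ Φ ≪≫ₗ
      AlgebraTensorModule.rid B K K
  have hψ : ψ (1 ⊗ₜ m) = algebraMap B K (Φ (1 ⊗ₜ m)) := by
    simp [ψ, Algebra.algebraMap_eq_smul_one]
  let f : p.ResidueField →ₐ[R] K := Ideal.ResidueField.mapₐ p q.asIdeal (Algebra.ofId R B) rfl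
  have hinj : Function.Injective (f.toLinearMap.rTensor M) := by
    let _ : Algebra p.ResidueField K := f.toRingHom.toAlgebra
    have : IsScalarTower R p.ResidueField K := .of_algebraMap_eq fun r => (f.commutes r).symm
    obtain ⟨s, hs⟩ := (Algebra.linearMap p.ResidueField K).exists_leftInverse_of_injective
      (LinearMap.ker_eq_bot.2 (algebraMap p.ResidueField K).injective)
    refine Function.LeftInverse.injective (g := (s.restrictScalars R).rTensor M) fun z => ?_
    rw [← LinearMap.rTensor_comp_apply]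
    have h : (s.restrictScalars R).comp f.toLinearMap = LinearMap.id := LinearMap.ext fun a => congr($hs a)
    rw [h, LinearMap.rTensor_id, LinearMap.id_apply]
  rw [← Ideal.algebraMap_residueField_eq_zero, ← hψ, LinearEquiv.map_eq_zero_iff]
  rw [← hinj.eq_iff (b := 0), map_zero, LinearMap.rTensor_tmul, AlgHom.toLinearMap_apply, map_one]

/-- The section `c` of the structure sheaf generates exactly where it is invertible. -/
theorem glocus_structureModule {X : Scheme.{u}} (c : Γ(X, ⊤)) :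
    glocus (Coh.structureModule X) (show Γ(Coh.structureModule X, ⊤) from c) = X.basicOpen c := by
  have h := glocus_inf (L := Coh.structureModule X) (show Γ(Coh.structureModule X, ⊤) from c)
    (isGen_oneSec (⊤ : X.Opens))
  rw [inf_top_eq] at h
  rw [h]
  refine congrArg X.basicOpen ?_
  refine IsGen.coef_eq _ _ ?_
  rw [resM_self]
  exact (mul_one c).trans (resM_self (Coh.structureModule X) _ c).symm

/-- Over an affine base: `L` is generated by a global section over a neighbourhood of every point of the base. -/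
theorem exists_gen_near {X : Scheme.{u}} {R : CommRingCat.{u}} (π : X ⟶ Spec R) [QuasiCompact π] [QuasiSeparated π]
    (hπ : Function.Bijective π.appTop) {L : X.Modules} (hL : PicF.IsInvertible L)
    {ι : Type*} (B : ι → CommRingCat.{u}) (h : ∀ j, Spec (B j) ⟶ Spec R) [∀ j, Flat (h j)]
    (hZ : ∀ Z : Set (Spec R), (∀ j, IsClosed (h j ⁻¹' Z)) → IsClosed Z)
    (hsurj : ∀ p : Spec R, ∃ j, p ∈ Set.range (h j))
    (htriv : ∀ j, PicM.pull (pullback.fst π (h j)) (PicM.of hL) = 1) (y : Spec R) :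
    ∃ (W : (Spec R).Opens) (m : Γ(L, ⊤)), y ∈ W ∧ π ⁻¹ᵁ W ≤ glocus L m := by
  have : Coh.IsQCoh L := isQCoh_of_isInvertible hL
  have : CompactSpace X := (quasiCompact_iff_compactSpace π).mp inferInstance
  have : QuasiSeparatedSpace X := (quasiSeparated_iff_quasiSeparatedSpace π).mp inferInstance
  let _ : X.Over (Spec (CommRingCat.of R)) := ⟨π⟩
  let φ : R →+* Γ(X, ⊤) := Coh.toGlobal (X := X) (A := R) π
  let M := HA φ L (⊤ : X.Opens) 0
  let V : M → Set (Spec R) := fun x =>
    {p | ((1 : (show PrimeSpectrum R from p).asIdeal.ResidueField) ⊗ₜ[R] x) = 0}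
  have key : ∀ j, ∃ c : M → B j, (∀ x (z : Spec (B j)), c x ∈ (show PrimeSpectrum (B j) from z).asIdeal ↔
        h j z ∈ V x) ∧ (∀ z : Spec (B j), ∃ x, c x ∉ (show PrimeSpectrum (B j) from z).asIdeal) ∧
      ∀ (x : M) (w : ↑(pullback π (h j))), pullback.fst π (h j) w ∈ glocus L (secTop φ L x) ↔
        c x ∉ (show PrimeSpectrum (B j) from pullback.snd π (h j) w).asIdeal := by
    intro j
    obtain ⟨ψ, hψ⟩ : ∃ ψ : R ⟶ B j, h j = Spec.map ψ := ⟨Spec.preimage (h j), (Spec.map_preimage _).symm⟩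
    let _ : Algebra R (B j) := ψ.hom.toAlgebra
    have hh : h j = Spec.map (CommRingCat.ofHom (algebraMap R (B j))) := hψ
    have : Module.Flat R (B j) := by
      have hf : Flat (Spec.map ψ) := hψ ▸ inferInstance
      rwa [HasRingHomProperty.Spec_iff (P := @Flat)] at hf
    let X' := pullback π (h j)
    let g : X' ⟶ X := pullback.fst π (h j)
    let q : X' ⟶ Spec (B j) := pullback.snd π (h j)
    let _ : X'.Over (Spec (CommRingCat.of (B j))) := ⟨q⟩
    have H : IsPullback g q π (h j) := IsPullback.of_hasPullback _ _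
    have H' : IsPullback g (X' ↘ Spec (CommRingCat.of (B j))) (X ↘ Spec (CommRingCat.of R))
        (Spec.map (CommRingCat.ofHom (algebraMap R (B j)))) := by
      rw [← hh]; exact H
    have : IsAffineHom g := MorphismProperty.pullback_fst _ _ inferInstance
    let β : B j →+* Γ(X', ⊤) := Coh.toGlobal (X := X') (A := B j) q
    obtain ⟨E, hE⟩ := exists_baseChange_sections g φ β L (appTop_toGlobal g H')
      (fun U hU => isBCPushout_of_isPullback g H' hU)
    have hβ : Function.Bijective β :=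
      (bijective_appTop_of_isPullback g q π (h j) H hπ).comp
        (ConcreteCategory.bijective_of_isIso (Scheme.ΓSpecIso (B j)).inv)
    obtain ⟨e⟩ := (PicM.of_eq_one_iff (PicLoc.isInvertible_pullback g hL)).1 ((PicM.pull_of g hL).symm.trans (htriv j))
    let eT : Γ((Scheme.Modules.pullback g).obj L, ⊤) ≃+ Γ(X', ⊤) :=
      AddEquiv.ofBijective (e.hom.app ⊤).hom (ConcreteCategory.bijective_of_isIso (C := AddCommGrpCat) (e.hom.app ⊤))
    let βE : B j ≃+ Γ(X', ⊤) := AddEquiv.ofBijective β.toAddMonoidHom hβ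
    let F : (B j) ⊗[R] M ≃+ B j := (E.trans eT).trans βE.symm
    let c : M → B j := fun x => F (1 ⊗ₜ x)
    have hF : ∀ (b : B j) x, β (F (b ⊗ₜ x)) = β b * β (c x) := by
      intro b x
      have h1 : ∀ z, β (F z) = eT (E z) := fun z => βE.apply_symm_apply _
      show β (F (b ⊗ₜ x)) = β b * β (F (1 ⊗ₜ x))
      rw [h1, h1, hE, hE]
      rw [map_one β, one_smul]
      exact Scheme.Modules.Hom.app_smul e.hom (β b) _
    let Φ : (B j) ⊗[R] M ≃ₗ[B j] B j :=
      { F with
        map_smul' := fun b z => by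
          show F (b • z) = b • F z
          induction z using TensorProduct.induction_on with
          | zero => simp
          | add u v hu hv => simp only [smul_add, map_add, hu, hv]
          | tmul b' x =>
            refine hβ.1 ?_
            rw [smul_tmul', smul_eq_mul, smul_eq_mul]
            exact ((hF (b * b') x).trans (by rw [map_mul, mul_assoc, ← hF b' x])).trans (map_mul β b _).symm }

    refine ⟨c, fun x z => ?_, fun z => ?_, fun x w => ?_⟩
    · refine (coord_mem_iff Φ (show PrimeSpectrum (B j) from z) x).trans ?_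
      rw [hψ]
      rfl
    · by_contra hc
      push Not at hc
      refine (show PrimeSpectrum (B j) from z).2.ne_top ((Ideal.eq_top_iff_one _).2 ?_)
      obtain ⟨w, hw⟩ := Φ.surjective 1
      rw [← hw]
      clear hw
      induction w using TensorProduct.induction_on with
      | zero => rw [map_zero]; exact zero_mem _
      | add u v hu hv => rw [map_add]; exact add_mem hu hv
      | tmul b x =>
        rw [show Φ (b ⊗ₜ[R] x) = b • Φ (1 ⊗ₜ[R] x) by rw [← map_smul, smul_tmul', smul_eq_mul, mul_one]]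
        exact Ideal.mul_mem_left _ _ (hc x)
    · show w ∈ g ⁻¹ᵁ glocus L (secTop φ L x) ↔ _
      rw [← glocus_pullSec g hL, ← glocus_map_iso e]
      have hc : e.hom.app ⊤ (pullSec g (secTop φ L x)) = (show Γ(X', ⊤) from β (c x)) := by
        have := hF 1 x
        show _ = β (F (1 ⊗ₜ x))
        rw [show β (F (1 ⊗ₜ x)) = eT (E (1 ⊗ₜ x)) from βE.apply_symm_apply _, hE, map_one β, one_smul]
        rfl
      rw [hc, glocus_structureModule]
      show w ∈ X'.basicOpen (q.appTop ((Scheme.ΓSpecIso (B j)).inv (c x))) ↔ _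
      erw [← Scheme.preimage_basicOpen_top]
      rw [Scheme.Hom.mem_preimage]
      rw [basicOpen_eq_of_affine (c x)]
      rfl
  choose c hc hne hmem using key
  obtain ⟨j₀, z₀, hz₀⟩ := hsurj y
  obtain ⟨x, hx⟩ := hne j₀ z₀
  have hclosed : IsClosed (V x) := hZ _ fun j => by
    have : h j ⁻¹' V x = (PrimeSpectrum.basicOpen (c j x) : Set (PrimeSpectrum (B j)))ᶜ := by
      ext z
      exact (hc j x z).symm.trans not_not.symm
    rw [this]
    exact (PrimeSpectrum.basicOpen _).isOpen.isClosed_compl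
  refine ⟨⟨(V x)ᶜ, hclosed.isOpen_compl⟩, secTop φ L x, ?_, fun a ha => ?_⟩
  · exact fun hy => hx ((hc j₀ x z₀).2 (hz₀.symm ▸ hy))
  · obtain ⟨j, z, hz⟩ := hsurj (π a)
    obtain ⟨w, hw₁, hw₂⟩ := Scheme.Pullback.exists_preimage_pullback (f := π) (g := h j) a z hz.symm
    rw [← hw₁, hmem j x w, hw₂, hc j x z, hz]
    exact ha

theorem isGen_app_iso {X : Scheme.{u}} {L L' : X.Modules} (e : L ≅ L') {U : X.Opens} {s : Γ(L, U)} (hs : IsGen L U s) :
    IsGen L' U (e.hom.app U s) := by
  intro V hV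
  convert (ConcreteCategory.bijective_of_isIso (e.hom.app V)).comp (hs V hV) using 1
  funext r
  show r • resM L' hV (e.hom.app U s) = e.hom.app V (r • resM L hV s)
  rw [Scheme.Modules.Hom.app_smul, app_resM]

theorem exists_isGen_of_restrict {X : Scheme.{u}} (L : X.Modules) (O : X.Opens) {W : O.toScheme.Opens}
    {s : Γ(L.restrict O.ι, W)} (hs : IsGen (L.restrict O.ι) W s) :
    ∃ t : Γ(L, O.ι ''ᵁ W), IsGen L (O.ι ''ᵁ W) t := by
  refine ⟨(L.restrictAppIso O.ι W).hom s, fun V hV => ?_⟩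
  obtain ⟨V', rfl⟩ : ∃ V' : O.toScheme.Opens, O.ι ''ᵁ V' = V := ⟨O.ι ⁻¹ᵁ V, by
    rw [O.ι.image_preimage_eq_opensRange_inf, Scheme.Opens.opensRange_ι, inf_eq_right]
    exact hV.trans ((O.ι.image_mono le_top).trans (Scheme.Opens.ι_image_top O).le)⟩
  have h' : V' ≤ W := (Scheme.Hom.image_le_image_iff O.ι V' W).1 hV
  have hb1 := ConcreteCategory.bijective_of_isIso (L.restrictAppIso O.ι V').hom
  have hb3 := ConcreteCategory.bijective_of_isIso (O.ι.appIso V').hom
  convert hb1.comp ((hs V' h').comp hb3) using 1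
  funext r
  refine Eq.trans ?_ (Scheme.Modules.smul_restrictAppIso_hom_apply O.ι L V' _ _).symm
  rw [← ConcreteCategory.comp_apply (O.ι.appIso V').hom, Iso.hom_inv_id]
  rfl

/-- The inverse image of an invertible module is trivial where it has a generator. -/
theorem pull_eq_one_of_isGen {X T : Scheme.{u}} (σ : T ⟶ X) {L : X.Modules} (hL : PicF.IsInvertible L)
    {W : X.Opens} {g : Γ(L, W)} (hg : IsGen L W g) (hW : σ ⁻¹ᵁ W = ⊤) : PicM.pull σ (PicM.of hL) = 1 := by
  rw [PicM.pull_of, PicM.of_eq_one_iff]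
  have h := (isGen_pullSec σ hg hL).restrict (hW.ge : (⊤ : T.Opens) ≤ σ ⁻¹ᵁ W)
  have : IsIso (unitDesc ((Scheme.Modules.pullback σ).obj L) (resM _ hW.ge (pullSec σ g))) :=
    isIso_of_isGen _ (by rw [unitVal_unitDesc, resM_self]; exact h)
  exact ⟨(asIso (unitDesc _ (resM _ hW.ge (pullSec σ g)))).symm⟩

/-- An invertible module which is the inverse image of one on the base, flat locally on the base, is one globally. -/
theorem exists_descend_of_flat_cover {X S : Scheme.{u}} (f : X ⟶ S) [QuasiCompact f] [QuasiSeparated f]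
    (hf : ∀ U : S.Opens, Function.Bijective (f.app U)) {L : X.Modules} (hL : PicF.IsInvertible L)
    {ι : Type*} (S' : ι → Scheme.{u}) (g : ∀ j, S' j ⟶ S) [∀ j, Flat (g j)]
    (hsurj : ∀ y : S, ∃ j, y ∈ Set.range (g j))
    (hZ : ∀ Z : Set S, (∀ j, IsOpen (g j ⁻¹' Z)) → IsOpen Z)
    (N : ∀ j, PicM (S' j))
    (hN : ∀ j, PicM.pull (pullback.fst f (g j)) (PicM.of hL) = PicM.pull (pullback.snd f (g j)) (N j)) :
    PicF.IsInvertible ((Scheme.Modules.pushforward f).obj L) ∧
      IsIso ((Scheme.Modules.pullbackPushforwardAdjunction f).counit.app L) := by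
  have key : ∀ y : S, ∃ (W : S.Opens), y ∈ W ∧ ∃ t : Γ(L, f ⁻¹ᵁ W), IsGen L (f ⁻¹ᵁ W) t := by
    intro y
    obtain ⟨_, ⟨U, hU, rfl⟩, hyU, -⟩ :=
      S.isBasis_affineOpens.exists_subset_of_mem_open (Set.mem_univ y) isOpen_univ
    let O : X.Opens := f ⁻¹ᵁ U
    have hUι : hU.isoSpec.hom ≫ hU.fromSpec = Scheme.Opens.ι U := by rw [← hU.isoSpec_inv_ι, Iso.hom_inv_id_assoc]
    let π : O.toScheme ⟶ Spec Γ(S, U) := (f ∣_ U) ≫ hU.isoSpec.hom
    have hOπ : π ≫ hU.fromSpec = O.ι ≫ f := by
      simp [π, O, hUι, morphismRestrict_ι]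
    have hπ : Function.Bijective π.appTop := by
      have h1 : Function.Bijective ((f ∣_ U).appTop) := by
        rw [Scheme.Hom.appTop, morphismRestrict_app]
        exact (ConcreteCategory.bijective_of_isIso (X.presheaf.map _)).comp (hf _)
      rw [Scheme.Hom.comp_appTop]
      have : IsIso (hU.isoSpec.hom.appTop) := inferInstanceAs (IsIso (Scheme.Γ.map hU.isoSpec.hom.op))
      exact h1.comp (ConcreteCategory.bijective_of_isIso (hU.isoSpec.hom.appTop))
    have hL' := PicLoc.isInvertible_pullback O.ι hL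
    -- affine pieces over `U` on which the given modules are trivial
    have hV : ∀ (j : ι) (z : {z : S' j // g j z ∈ U}), ∃ (V : (S' j).Opens) (_ : IsAffineOpen V),
        z.1 ∈ V ∧ V ≤ g j ⁻¹ᵁ U ∧ ∀ (T : Scheme.{u}) (σ : T ⟶ S' j), σ ⁻¹ᵁ V = ⊤ → PicM.pull σ (N j) = 1 := by
      intro j z
      obtain ⟨M, hM, hMN⟩ := PicM.exists_eq_of (N j)
      obtain ⟨W, hzW, s, hs⟩ := exists_isGen hM z.1
      obtain ⟨V, hVa, hzV, hVW⟩ := Opens.isBasis_iff_nbhd.mp (S' j).isBasis_affineOpens
        (show z.1 ∈ W ⊓ g j ⁻¹ᵁ U from ⟨hzW, z.2⟩)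
      refine ⟨V, hVa, hzV, hVW.trans inf_le_right, fun T σ hσ => ?_⟩
      rw [hMN]
      exact pull_eq_one_of_isGen σ hM hs
        (top_le_iff.1 (hσ ▸ (Opens.map σ.base).monotone (hVW.trans inf_le_left)))
    choose V hVa hzV hVU hVtriv using hV
    let κ := Σ j, {z : S' j // g j z ∈ U}
    let h : ∀ k : κ, Spec Γ(S' k.1, V k.1 k.2) ⟶ Spec Γ(S, U) := fun k =>
      Spec.map ((g k.1).appLE U (V k.1 k.2) (hVU k.1 k.2))
    have hfac : ∀ k : κ, h k ≫ hU.fromSpec = (hVa k.1 k.2).fromSpec ≫ g k.1 := fun k =>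
      IsAffineOpen.SpecMap_appLE_fromSpec (g k.1) hU (hVa k.1 k.2) _
    have : ∀ k, Flat (h k) := fun k => by
      rw [HasRingHomProperty.Spec_iff (P := @Flat)]
      exact (g k.1).flat_appLE hU (hVa k.1 k.2) _
    have hpre : ∀ (k : κ), (hVa k.1 k.2).fromSpec ⁻¹ᵁ V k.1 k.2 = ⊤ := fun k =>
      (hVa k.1 k.2).fromSpec_preimage_self
    obtain ⟨W, m, hyW, hWm⟩ := exists_gen_near π hπ hL' (fun k : κ => Γ(S' k.1, V k.1 k.2)) h
      (fun Z hZc => by
        have hopen : IsOpen (hU.fromSpec '' Zᶜ) := hZ _ fun j => by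
          refine isOpen_iff_forall_mem_open.2 fun z hz => ?_
          have hzU : g j z ∈ U := by
            obtain ⟨p, -, hp⟩ := hz
            rw [← hp]
            exact (hU.range_fromSpec.le ⟨p, rfl⟩ : _)
          let k : κ := ⟨j, z, hzU⟩
          refine ⟨(hVa k.1 k.2).fromSpec '' (h k ⁻¹' Zᶜ), ?_,
            (hVa k.1 k.2).fromSpec.isOpenEmbedding.isOpenMap _ ((hZc k).isOpen_compl), ?_⟩
          · rintro _ ⟨w, hw, rfl⟩
            refine ⟨h k w, hw, ?_⟩
            exact congr($(hfac k).base w)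
          · obtain ⟨w, hw⟩ : z ∈ Set.range (hVa k.1 k.2).fromSpec := (hVa k.1 k.2).range_fromSpec.ge (hzV j ⟨z, hzU⟩)
            refine ⟨w, ?_, hw⟩
            obtain ⟨p, hp, hp'⟩ := hz
            have e : h k w = p := hU.fromSpec.isOpenEmbedding.injective
              ((congr($(hfac k).base w)).trans ((congrArg (g j) hw).trans hp'.symm))
            show h k w ∈ Zᶜ
            rw [e]
            exact hp
        have := hopen.preimage hU.fromSpec.continuous
        rwa [Set.preimage_image_eq _ hU.fromSpec.isOpenEmbedding.injective, isOpen_compl_iff] at this)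
      (fun p => by
        obtain ⟨j, z, hz⟩ := hsurj (hU.fromSpec p)
        have hzU : g j z ∈ U := hz ▸ hU.range_fromSpec.le ⟨p, rfl⟩
        let k : κ := ⟨j, z, hzU⟩
        obtain ⟨w, hw⟩ : z ∈ Set.range (hVa k.1 k.2).fromSpec := (hVa k.1 k.2).range_fromSpec.ge (hzV j ⟨z, hzU⟩)
        exact ⟨k, w, hU.fromSpec.isOpenEmbedding.injective
          ((congr($(hfac k).base w)).trans ((congrArg (g j) hw).trans hz))⟩)
      (fun k => by
        let a : pullback π (h k) ⟶ pullback f (g k.1) := pullback.lift (pullback.fst π (h k) ≫ O.ι)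
          (pullback.snd π (h k) ≫ (hVa k.1 k.2).fromSpec) (by
            rw [Category.assoc, Category.assoc, ← hOπ, ← hfac, pullback.condition_assoc])
        rw [← PicM.pull_of O.ι hL, PicM.pull_pull,
          show pullback.fst π (h k) ≫ O.ι = a ≫ pullback.fst f (g k.1) from (pullback.lift_fst _ _ _).symm,
          ← PicM.pull_pull, hN, PicM.pull_pull,
          show a ≫ pullback.snd f (g k.1) = pullback.snd π (h k) ≫ (hVa k.1 k.2).fromSpec from pullback.lift_snd _ _ _,
          ← PicM.pull_pull, hVtriv k.1 k.2 _ _ (hpre k), map_one])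
      (hU.isoSpec.hom ⟨y, hyU⟩)
    have hgen := isGen_app_iso ((Scheme.Modules.restrictFunctorIsoPullback O.ι).app L).symm
      ((isGen_glocus m).restrict hWm)
    obtain ⟨t, ht⟩ := exists_isGen_of_restrict L O hgen
    have himg : O.ι ''ᵁ (π ⁻¹ᵁ W) = f ⁻¹ᵁ (hU.fromSpec ''ᵁ W) := by
      refine Opens.ext (Set.ext fun a => ⟨?_, fun ha => ?_⟩)
      · rintro ⟨o, ho, rfl⟩
        exact ⟨π o, ho, congr($(hOπ).base o)⟩
      · obtain ⟨p, hp, hpa⟩ := ha
        have haO : a ∈ O := show f a ∈ U from hpa ▸ hU.range_fromSpec.le ⟨p, rfl⟩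
        refine ⟨⟨a, haO⟩, ?_, rfl⟩
        show π ⟨a, haO⟩ ∈ W
        rw [show π ⟨a, haO⟩ = p from hU.fromSpec.isOpenEmbedding.injective
          ((congr($(hOπ).base ⟨a, haO⟩)).trans hpa.symm)]
        exact hp
    refine ⟨hU.fromSpec ''ᵁ W, ⟨hU.isoSpec.hom ⟨y, hyU⟩, hyW, ?_⟩, himg ▸ ⟨t, ht⟩⟩
    exact congr($(hUι).base ⟨y, hyU⟩)
  choose W hyW t ht using key
  let P := (Scheme.Modules.pushforward f).obj L
  have hP : ∀ y, IsGen P (W y) (show Γ(P, W y) from t y) := fun y U hU => by
    exact ((ht y) (f ⁻¹ᵁ U) ((Opens.map f.base).map (homOfLE hU)).le).comp (hf U)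
  have hPi : PicF.IsInvertible P := isInvertible_of_gens fun y => ⟨W y, hyW y, _, hP y⟩
  refine ⟨hPi, ?_⟩
  have hcov : (⨆ y, f ⁻¹ᵁ W y) = ⊤ := top_le_iff.1 fun a _ => Opens.mem_iSup.2 ⟨f a, hyW (f a)⟩
  refine isIso_of_gens ((Scheme.Modules.pullbackPushforwardAdjunction f).counit.app L) (fun y => f ⁻¹ᵁ W y) hcov
    (fun y => pullSec f (show Γ(P, W y) from t y)) (fun y => isGen_pullSec f (hP y) hPi) (fun y => ?_)
  have he : (Scheme.Modules.pullbackPushforwardAdjunction f).counit.app L =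
      ((Scheme.Modules.pullbackPushforwardAdjunction f).homEquiv P L).symm (𝟙 P) := by
    rw [Adjunction.homEquiv_counit]
    exact (Category.id_comp _).symm.trans (congrArg (· ≫ _) ((Scheme.Modules.pullback f).map_id P).symm)
  have hs := homEquiv_symm_app_pullSec f (U := W y) (𝟙 P) (show Γ(P, W y) from t y)
  rw [← he] at hs
  exact hs.symm ▸ ht y

end Groth.Agent.PicLib
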