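import Groth.Agent.AmpleLib.Ample
import Groth.Agent.LocFreeLib.Semilocal

/-!
# Invertible modules are trivial near finite sets of points
-/

set_option autoImplicit false
set_option backward.isDefEq.respectTransparency.types false

universe u

open CategoryTheory CategoryTheory.Limits AlgebraicGeometry

namespace Groth.Agent.PicLib

variable {X : Scheme.{u}}

noncomputable def freeModOneIso (X : Scheme.{u}) : FlatMod.freeMod X 1 ≅ Coh.structureModule X :=
  coproductUniqueIso (fun _ : Fin 1 => Coh.structureModule X)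

theorem isFinLocFreeOfRank_one {L : X.Modules} (hL : PicF.IsInvertible L) : FlatMod.IsFinLocFreeOfRank 1 L :=
  fun x => by
    obtain ⟨U, hx, ⟨e⟩⟩ := hL x
    exact ⟨U, hx, ⟨e ≪≫ (freeModOneIso _).symm⟩⟩

/-- An invertible module is trivial on an affine open around a finite subset of an affine open. -/
theorem exists_triv_of_finite {L : X.Modules} (hL : PicF.IsInvertible L) {V : X.Opens} (hV : IsAffineOpen V)
    (Z : Set X) (hZ : Z.Finite) (hZV : Z ⊆ V) :
    ∃ U : X.Opens, Z ⊆ U ∧ U ≤ V ∧ IsAffineOpen U ∧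
      Nonempty (L.restrict U.ι ≅ Coh.structureModule (U : Scheme.{u})) := by
  obtain ⟨U, hZU, hUV, hU, ⟨e⟩⟩ := LocFreeLib.exists_iso_freeMod_basicOpen (isFinLocFreeOfRank_one hL) hV Z hZ hZV
  exact ⟨U, hZU, hUV, hU, ⟨e ≪≫ freeModOneIso _⟩⟩

/-- With an ample module, an invertible module is trivial near any finite set of points. -/
theorem exists_triv_of_finite_of_isAmple {A L : X.Modules} (hA : CohB1.IsAmple A) (hL : PicF.IsInvertible L)
    (Z : Set X) (hZ : Z.Finite) :
    ∃ U : X.Opens, Z ⊆ U ∧ IsAffineOpen U ∧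
      Nonempty (L.restrict U.ι ≅ Coh.structureModule (U : Scheme.{u})) := by
  obtain ⟨m, -, b, hb, -, haff⟩ := AmpleLib.exists_affine_glocus_finite (U := ⊤) hA Z hZ fun _ _ => trivial
  obtain ⟨U, h1, -, h3, h4⟩ := exists_triv_of_finite hL haff Z hZ hb
  exact ⟨U, h1, h3, h4⟩

end Groth.Agent.PicLib
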