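import Groth.Agent.Coherent.PullUnit
import Groth.Agent.AmpleLib.Ample
import Mathlib.AlgebraicGeometry.Morphisms.ClosedImmersion

/-!
# Lifting sections and generators from a closed subscheme
-/

set_option autoImplicit false
set_option backward.isDefEq.respectTransparency.types false

universe u

open CategoryTheory CategoryTheory.Limits AlgebraicGeometry Opposite TopologicalSpace
open Groth.Agent.Coherent Groth.Agent.PicLib Groth.Agent.AmpleLib

namespace Groth.Agent.PicLib

variable {X T : Scheme.{u}} (σ : T ⟶ X) {L : X.Modules} {U : X.Opens}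

theorem isUnit_of_pullback_isUnit [Surjective σ] {W : X.Opens} {c : Γ(X, W)} (h : IsUnit (σ.app W c)) : IsUnit c := by
  refine X.toRingedSpace.isUnit_of_isUnit_germ W c fun x hx => ?_
  obtain ⟨z, rfl⟩ := σ.surjective x
  refine ((Scheme.mem_basicOpen X c (σ z) hx).1 ?_)
  show z ∈ σ ⁻¹ᵁ X.basicOpen c
  rw [Scheme.preimage_basicOpen, T.basicOpen_of_isUnit h]
  exact hx

/-- A section whose inverse image generates on a surjective cover generates. -/
theorem isGen_of_pullSec [Surjective σ] (hL : PicF.IsInvertible L) {s : Γ(L, U)}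
    (hs : IsGen ((Scheme.Modules.pullback σ).obj L) (σ ⁻¹ᵁ U) (pullSec σ s)) : IsGen L U s := by
  obtain ⟨W, g, hm, hg⟩ := exists_cover hL
  refine isGen_of_cover (fun y => U ⊓ W y) (fun y => inf_le_left)
    (fun y hy => Opens.mem_iSup.2 ⟨y, hy, hm y⟩) fun y => ?_
  have h1 := (hg y).restrict (inf_le_right : U ⊓ W y ≤ W y)
  have hc := h1.coef_spec le_rfl (resM L (inf_le_left : U ⊓ W y ≤ U) s)
  rw [resM_self] at hc
  have h2 : IsGen ((Scheme.Modules.pullback σ).obj L) (σ ⁻¹ᵁ (U ⊓ W y)) (pullSec σ (resM L (inf_le_left : U ⊓ W y ≤ U) s)) := by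
    rw [← resM_pullSec]
    exact hs.restrict _
  rw [← hc, pullSec_smul] at h2
  have hg' := isGen_pullSec σ h1 hL
  have hu : IsUnit (σ.app (U ⊓ W y) (h1.coef le_rfl (resM L (inf_le_left : U ⊓ W y ≤ U) s))) := by
    have := hg'.isUnit_coef h2
    rwa [hg'.coef_eq le_rfl (r := σ.app (U ⊓ W y) (h1.coef le_rfl (resM L (inf_le_left : U ⊓ W y ≤ U) s)))
      (by rw [resM_self])] at this
  obtain ⟨w, hw⟩ := isUnit_of_pullback_isUnit σ hu
  rw [← hc, ← hw]
  exact h1.smul_unit w

/-- Over an affine open, sections of the inverse image on a closed subscheme lift. -/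
theorem surjective_pullSec [IsClosedImmersion σ] [Coh.IsQCoh L] (hU : IsAffineOpen U) :
    Function.Surjective (pullSec σ : Γ(L, U) → _) := by
  intro z
  let _ := (σ.appLE U (σ ⁻¹ᵁ U) le_rfl).hom.toAlgebra
  let _ := Module.compHom Γ((Scheme.Modules.pullback σ).obj L, σ ⁻¹ᵁ U) (σ.appLE U (σ ⁻¹ᵁ U) le_rfl).hom
  have : IsScalarTower Γ(X, U) Γ(T, σ ⁻¹ᵁ U) Γ((Scheme.Modules.pullback σ).obj L, σ ⁻¹ᵁ U) :=
    IsScalarTower.of_algebraMap_smul fun _ _ => rfl
  obtain ⟨μ, hb, hμ⟩ := EGA43.InjFibre.pullMap_isBaseChange σ hU (hU.preimage σ) le_rfl (M := L)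
  induction z using hb.inductionOn with
  | zero => exact ⟨0, map_zero (((Scheme.Modules.pullbackPushforwardAdjunction σ).unit.app L).app U).hom⟩
  | tmul m => exact ⟨m, by rw [hμ, pullMap_eq_resM_pullSec, resM_self]⟩
  | smul r n hn =>
    obtain ⟨m, rfl⟩ := hn
    obtain ⟨r', hr'⟩ := σ.app_surjective _ hU r
    exact ⟨r' • m, by rw [pullSec_smul, hr']⟩
  | add a b ha hb =>
    obtain ⟨m, rfl⟩ := ha
    obtain ⟨m', rfl⟩ := hb
    exact ⟨m + m', map_add (((Scheme.Modules.pullbackPushforwardAdjunction σ).unit.app L).app U).hom m m'⟩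

end Groth.Agent.PicLib
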