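import Groth.Agent.Coherent.FormalFunctions
import Groth.Agent.Coherent.SecBridge
import Groth.Agent.Coherent.ConnectedFibre
import Groth.Agent.PicLib.LiftGen
import Groth.Agent.PicLib.PicMonoid
import Groth.Agent.PicLib.FlatTriv
import Groth.Agent.AmpleLib.GenLocus
import Groth.Agent.FSchLib.Systems

/-!
# Invertible modules trivial on all infinitesimal neighbourhoods of a closed fibre
-/

set_option autoImplicit false
set_option backward.isDefEq.respectTransparency.types false

universe u

open CategoryTheory CategoryTheory.Limits AlgebraicGeometry Opposite TopologicalSpace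
open Groth.Agent.Coherent Groth.Agent.AmpleLib

namespace Groth.Agent.PicLib

theorem isCoh_of_isInvertible {X : Scheme.{u}} {L : X.Modules} (hL : PicF.IsInvertible L) : Coh.IsCoh L := by
  refine ⟨isQCoh_of_isInvertible hL, isFT_of_locallyFinGen fun x => ?_⟩
  obtain ⟨U, hx, s, hs⟩ := exists_isGen hL x
  refine ⟨U, PUnit.{u + 1}, inferInstance, fun _ => s, hx, fun W hW a y hy => ⟨W, le_rfl, hy, fun _ => hs.coef hW a, ?_⟩⟩
  rw [resM_self, Fintype.sum_unique]
  exact (hs.coef_spec hW a).symm

variable {A : Type u} [CommRing A] {X : Scheme.{u}} [X.Over (Spec (CommRingCat.of A))]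

theorem T_basicOpen_of_isUnit {S : Scheme.{u}} {V : S.Opens} (r : Γ(S, V)) (h : IsUnit r) : S.basicOpen r = V :=
  S.basicOpen_of_isUnit h

theorem app_preimage_map' {S R : Scheme.{u}} (f : S ⟶ R) (V : R.Opens) (r : Γ(R, ⊤)) :
    f.app V (R.presheaf.map (homOfLE (le_top (a := V))).op r) =
      S.presheaf.map (homOfLE ((Opens.map f.base).monotone (le_top (a := V)))).op (f.app ⊤ r) :=
  congr($(f.naturality (homOfLE (le_top (a := V))).op) r)

/-- On a closed subscheme cut out by `J`, the sections killed by the restriction are killed modulo `J`. -/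
theorem modPowπ_app_eq_of_pullSec_eq (I : Ideal A) (n : ℕ) {T : Scheme.{u}} (σ : T ⟶ X)
    {p : T ⟶ Spec (CommRingCat.of (A ⧸ I ^ n))}
    (hσ : IsPullback σ p (X ↘ Spec (CommRingCat.of A)) (Spec.map (CommRingCat.ofHom (Ideal.Quotient.mk (I ^ n)))))
    {L : X.Modules} (hL : PicF.IsInvertible L) {U : X.Opens} {a b : Γ(L, U)}
    (h : pullSec σ a = pullSec σ b) :
    (Formal.modPowπ I n L).app U a = (Formal.modPowπ I n L).app U b := by
  let ι := Spec.map (CommRingCat.ofHom (Ideal.Quotient.mk (I ^ n)))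
  have : IsClosedImmersion ι := IsClosedImmersion.spec_of_surjective _ Ideal.Quotient.mk_surjective
  have : IsClosedImmersion σ := MorphismProperty.of_isPullback hσ.flip (inferInstanceAs (IsClosedImmersion ι))
  refine sec_ext _ _ _ fun x hx => ?_
  obtain ⟨U₁, hx₁, g, hg⟩ := exists_isGen hL x
  obtain ⟨W, hW, hxW, hWle⟩ := exists_isAffineOpen_mem_and_subset (x := x) (U := U ⊓ U₁) ⟨hx, hx₁⟩
  refine ⟨W, fun z hz => (hWle hz).1, hxW, ?_⟩
  have hWU₁ : W ≤ U₁ := fun z hz => (hWle hz).2
  rw [← app_resM, ← app_resM, ← sub_eq_zero, ← map_sub]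
  have hgW := hg.restrict hWU₁
  have hc := hgW.coef_spec le_rfl (resM L (fun z hz => (hWle hz).1) a - resM L (fun z hz => (hWle hz).1) b)
  rw [resM_self] at hc
  generalize hgW.coef le_rfl (resM L (fun z hz => (hWle hz).1) a - resM L (fun z hz => (hWle hz).1) b) = c at hc
  -- the coefficient vanishes on the closed subscheme
  have hc0 : σ.app W c = 0 := by
    refine (isGen_pullSec σ hgW hL _ le_rfl).1 ?_
    show σ.app W c • _ = (0 : Γ(T, σ ⁻¹ᵁ W)) • _
    rw [zero_smul, resM_self, ← pullSec_smul, hc]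
    refine Eq.trans (map_sub (((Scheme.Modules.pullbackPushforwardAdjunction σ).unit.app L).app W).hom _ _) ?_
    show pullSec σ _ - pullSec σ _ = 0
    rw [← resM_pullSec, ← resM_pullSec, h]
    exact sub_eq_zero_of_eq rfl
  have hker : c ∈ ((I ^ n).map (baseHom A X)).map (X.presheaf.map (homOfLE (le_top (a := W))).op).hom := by
    have h1 : c ∈ (σ.ker).ideal ⟨W, hW⟩ := by
      rw [Scheme.Hom.ker_apply]
      exact hc0
    rw [FSchLib.ker_of_isPullback hσ, FSchLib.ideal_comap_eq_map _ _ ⟨W, hW⟩ ⟨⊤, isAffineOpen_top _⟩ le_top] at h1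
    rw [Ideal.map_map]
    have h2 : (ι.ker).ideal ⟨⊤, isAffineOpen_top _⟩ =
        (I ^ n).map (Scheme.ΓSpecIso (CommRingCat.of A)).inv.hom := by
      rw [Scheme.Hom.ker_apply]
      ext z
      obtain ⟨r, rfl⟩ := (ConcreteCategory.bijective_of_isIso (Scheme.ΓSpecIso (CommRingCat.of A)).inv).2 z
      rw [RingHom.mem_ker, Ideal.mem_map_iff_of_surjective _
        (ConcreteCategory.bijective_of_isIso (Scheme.ΓSpecIso (CommRingCat.of A)).inv).2]
      have e : ι.appTop ((Scheme.ΓSpecIso (CommRingCat.of A)).inv r) =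
          (Scheme.ΓSpecIso (CommRingCat.of (A ⧸ I ^ n))).inv (Ideal.Quotient.mk (I ^ n) r) :=
        (congr($(Scheme.ΓSpecIso_inv_naturality (CommRingCat.ofHom (Ideal.Quotient.mk (I ^ n)))) r)).symm
      show ι.appTop _ = 0 ↔ _
      rw [e]
      constructor
      · intro h0
        exact ⟨r, Ideal.Quotient.eq_zero_iff_mem.1 ((ConcreteCategory.bijective_of_isIso
          (Scheme.ΓSpecIso (CommRingCat.of (A ⧸ I ^ n))).inv).1 (h0.trans (map_zero _).symm)), rfl⟩
      · rintro ⟨r', hr', h0⟩
        obtain rfl : r' = r := (ConcreteCategory.bijective_of_isIso (Scheme.ΓSpecIso (CommRingCat.of A)).inv).1 h0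
        rw [Ideal.Quotient.eq_zero_iff_mem.2 hr', map_zero]
    rw [h2, Ideal.map_map] at h1
    have e : (X ↘ Spec (CommRingCat.of A)).appLE ⊤ W le_top =
        (X ↘ Spec (CommRingCat.of A)).appTop ≫ X.presheaf.map (homOfLE (le_top (a := W))).op := rfl
    rw [e] at h1
    exact h1
  rw [← hc]
  -- multiples of `I ^ n` die modulo `I ^ n`
  generalize resM L hWU₁ g = g'
  clear hc0 hc
  rw [Ideal.map_map, Ideal.map] at hker
  induction hker using Submodule.span_induction with
  | mem x hx =>
    obtain ⟨r, hr, rfl⟩ := hx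
    have h0 := congr(($(smulMod_modPowπ I L hr)).app W g')
    exact (congrArg ((Formal.modPowπ I n L).app W) (smulMod_app L r W g').symm).trans h0
  | zero => rw [zero_smul, map_zero]
  | add x y _ _ hx hy => rw [add_smul, map_add, hx, hy, add_zero]
  | smul r x _ hx => rw [smul_eq_mul, mul_smul, Scheme.Modules.Hom.app_smul, hx, smul_zero]

/-- An invertible module trivial on all infinitesimal neighbourhoods of the fibres over `V(I)` has a section
generating near these fibres. -/
theorem exists_glocus_of_formal [IsNoetherianRing A] [IsProper (X ↘ Spec (CommRingCat.of A))] (I : Ideal A)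
    {L : X.Modules} (hL : PicF.IsInvertible L)
    (h : ∀ n : ℕ, PicM.pull (pullback.fst (X ↘ Spec (CommRingCat.of A))
      (Spec.map (CommRingCat.ofHom (Ideal.Quotient.mk (I ^ (n + 1)))))) (PicM.of hL) = 1) :
    ∃ m : Γ(L, ⊤), ∀ z : X, (X ↘ Spec (CommRingCat.of A)) z ∈ PrimeSpectrum.zeroLocus (I : Set A) →
      z ∈ glocus L m := by
  let π := X ↘ Spec (CommRingCat.of A)
  let ι : ∀ n : ℕ, Spec (CommRingCat.of (A ⧸ I ^ n)) ⟶ Spec (CommRingCat.of A) := fun n =>
    Spec.map (CommRingCat.ofHom (Ideal.Quotient.mk (I ^ n)))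
  have hι : ∀ n, IsClosedImmersion (ι n) := fun n => IsClosedImmersion.spec_of_surjective _ Ideal.Quotient.mk_surjective
  have hcoh := isCoh_of_isInvertible hL
  have : Coh.IsQCoh L := hcoh.1
  obtain ⟨c, hc⟩ := exists_range_eq (A := A) I hcoh 0
  let σ := pullback.fst π (ι (c + 1))
  have := hι (c + 1)
  have hσ := IsPullback.of_hasPullback π (ι (c + 1))
  have : IsClosedImmersion σ := MorphismProperty.of_isPullback hσ.flip (inferInstanceAs (IsClosedImmersion (ι (c + 1))))
  obtain ⟨e0⟩ := (PicM.of_eq_one_iff (PicLoc.isInvertible_pullback σ hL)).1 ((PicM.pull_of σ hL).symm.trans (h c))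
  let t := e0.inv.app ⊤ (oneSec ⊤)
  have ht : IsGen _ ⊤ t := isGen_app_iso e0.symm (isGen_oneSec ⊤)
  -- the section of `L / I^(c+1) L`
  choose U hUy hU' using fun y : X => exists_isAffineOpen_mem_and_subset (x := y) (U := ⊤) (Set.mem_univ _)
  choose e he using fun y => surjective_pullSec σ (L := L) (hUy y) (resM _ le_top t)
  have hcov : ⊤ ≤ iSup U := fun y _ => Opens.mem_iSup.2 ⟨y, (hU' y).1⟩
  obtain ⟨(s : Γ(Formal.modPow I (c + 1) L, ⊤)), hs, -⟩ := TopCat.Sheaf.existsUnique_gluing'
    (⟨(Formal.modPow I (c + 1) L).presheaf, (Formal.modPow I (c + 1) L).isSheaf⟩ : TopCat.Sheaf Ab X)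
    U ⊤ (fun y => homOfLE le_top) hcov (fun y => (Formal.modPowπ I (c + 1) L).app (U y) (e y)) (fun y y' => by
      show resM _ inf_le_left _ = resM _ inf_le_right _
      rw [← app_resM, ← app_resM]
      refine modPowπ_app_eq_of_pullSec_eq I (c + 1) σ hσ hL ?_
      rw [← resM_pullSec, ← resM_pullSec, he, he, resM_resM, resM_resM])
  let φ := baseHom A X
  let E : ∀ M : X.Modules, Coh.HH X M 0 ≃ₗ[A] GA φ M := fun M => (HHA (A := A) M 0).trans (secA φ M)
  have hEnat : ∀ {M N : X.Modules} (g : M ⟶ N) (x : Coh.HH X M 0),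
      E N (Sheaf.H.map ((SheafOfModules.toSheaf _).map g) 0 x) = mapGA φ g (E M x) := fun g x =>
    (congrArg (secA φ _) (HHA_natural _ g 0 x)).trans (secA_natural φ g _)
  obtain ⟨m₀, hm₀⟩ := (hc 0 c (Nat.zero_le c) (by omega)).le ⟨(E _).symm s, rfl⟩
  let τ : Formal.modPow I (c + 1) L ⟶ Formal.modPow I 1 L := (Formal.completion I L).map (homOfLE (Nat.zero_le c)).op
  have hm : (Formal.modPowπ I 1 L).app ⊤ (show Γ(L, ⊤) from E L m₀) = τ.app ⊤ s := by
    refine ((hEnat _ _).symm.trans ((congrArg (E _) hm₀).trans ((hEnat τ _).trans ?_)))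
    show mapGA φ τ (E (Formal.modPow I (c + 1) L) ((E (Formal.modPow I (c + 1) L)).symm (show GA φ _ from s))) = _
    rw [LinearEquiv.apply_symm_apply]
    rfl
  refine ⟨(show Γ(L, ⊤) from E L m₀), fun z hz => ?_⟩
  generalize (show Γ(L, ⊤) from E L m₀) = m at hm
  -- compare with the lift at the residue field
  let σ' := X.fromSpecResidueField z
  have hm' : (Formal.modPowπ I 1 L).app (U z) (resM L le_top m) = (Formal.modPowπ I 1 L).app (U z) (e z) := by
    rw [app_resM, hm, ← app_resM, show resM _ (le_top (a := U z)) s = _ from hs z]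
    exact congr(($(modPowπ_completion_map I L (Nat.zero_le c))).app (U z) (e z))
  have hker : ∀ a ∈ I, σ'.app ⊤ (baseHom A X a) = 0 := by
    intro a ha
    let r : Γ(X, ⊤) := baseHom A X a
    have hr : z ∉ X.basicOpen r := by
      intro h
      have h' : π z ∈ (Spec (CommRingCat.of A)).basicOpen ((Scheme.ΓSpecIso (CommRingCat.of A)).inv a) := by
        have h2 : X.basicOpen r = π ⁻¹ᵁ
            ((Spec (CommRingCat.of A)).basicOpen ((Scheme.ΓSpecIso (CommRingCat.of A)).inv a)) :=
          (Scheme.preimage_basicOpen π _).symm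
        exact (h2 ▸ h :)
      rw [basicOpen_eq_of_affine] at h'
      exact h' (hz ha)
    refine (basicOpen_eq_bot_iff _).1 ?_
    rw [← Scheme.preimage_basicOpen, eq_bot_iff]
    intro t ht
    refine (hr ?_).elim
    rw [← X.fromSpecResidueField_apply z t]
    exact ht
  let η := (Scheme.Modules.pullbackPushforwardAdjunction σ').unit.app L
  have hcond : Formal.smulFamily (I ^ 1) L ≫ η = 0 := by
    apply Sigma.hom_ext
    rintro ⟨a, ha⟩
    rw [pow_one] at ha
    rw [comp_zero]
    simp only [Formal.smulFamily, colimit.ι_desc_assoc, Cofan.mk_pt, Cofan.mk_ι_app]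
    refine Scheme.Modules.hom_ext _ _ fun V => ?_
    ext v
    show pullSec σ' ((Formal.smulMod A L a).app V v) = 0
    rw [smulMod_app, pullSec_smul, app_preimage_map' σ' _ (baseHom A X a), hker a ha, map_zero, zero_smul]
  have hρ : Formal.modPowπ I 1 L ≫ cokernel.desc _ η hcond = η := cokernel.π_desc _ _ _
  have hpull : pullSec σ' (resM L (le_top (a := U z)) m) = pullSec σ' (e z) :=
    (congr(($hρ).app (U z) (resM L (le_top (a := U z)) m))).symm.trans
      ((congrArg ((cokernel.desc _ η hcond).app (U z)) hm').trans (congr(($hρ).app (U z) (e z))))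
  -- `e z` generates at `z`
  have he' : IsGen _ (σ' ⁻¹ᵁ U z) (pullSec σ' (e z)) := by
    obtain ⟨V, hzV, g, hg⟩ := exists_isGen hL z
    let W := U z ⊓ V
    have hzW : z ∈ W := ⟨(hU' z).1, hzV⟩
    have hgW := hg.restrict (inf_le_right : W ≤ V)
    have hcs := hgW.coef_spec le_rfl (resM L (inf_le_left : W ≤ U z) (e z))
    rw [resM_self] at hcs
    generalize hgW.coef le_rfl (resM L (inf_le_left : W ≤ U z) (e z)) = r at hcs
    have hσg := isGen_pullSec σ hgW hL
    have ht' : IsGen _ (σ ⁻¹ᵁ W) (pullSec σ (resM L (inf_le_left : W ≤ U z) (e z))) := by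
      rw [← resM_pullSec, he, resM_resM]
      exact ht.restrict _
    have hu : IsUnit (σ.app W r) := by
      have h1 := hσg.isUnit_coef ht'
      rwa [hσg.coef_eq le_rfl (r := σ.app W r) (by rw [resM_self, ← pullSec_smul, hcs])] at h1
    obtain ⟨z', rfl⟩ : z ∈ Set.range σ := by
      rw [Scheme.Pullback.range_fst]
      refine (_root_.range_comap_of_surjective _ _ Ideal.Quotient.mk_surjective).ge ?_
      rw [Ideal.mk_ker]
      exact (PrimeSpectrum.zeroLocus_anti_mono (Ideal.pow_le_self (Nat.succ_ne_zero c)) hz :)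
    have hzb : σ z' ∈ X.basicOpen r := by
      show z' ∈ σ ⁻¹ᵁ X.basicOpen r
      rw [Scheme.preimage_basicOpen, T_basicOpen_of_isUnit _ hu]
      exact hzW
    have hr : IsUnit (X.presheaf.map (homOfLE (X.basicOpen_le r)).op r) :=
      RingedSpace.isUnit_res_basicOpen X.toRingedSpace r
    have hgen : IsGen L (X.basicOpen r) (resM L ((X.basicOpen_le r).trans inf_le_left) (e (σ z'))) := by
      rw [← resM_resM L (inf_le_left : W ≤ U _) (X.basicOpen_le r), ← hcs, resM_smul]
      exact (isGen_smul_iff hr).2 (hgW.restrict _)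
    have h2 := (isGen_pullSec σ' hgen hL).restrict (V := σ' ⁻¹ᵁ U (σ z')) (fun q _ => by
      show σ' q ∈ X.basicOpen r
      rw [X.fromSpecResidueField_apply]
      exact hzb)
    rwa [← resM_pullSec, resM_resM, resM_self] at h2
  have hzg : IsLocalRing.closedPoint (X.residueField z) ∈ glocus _ (pullSec σ' m) := by
    refine (le_glocus_iff _ (σ' ⁻¹ᵁ U z)).2 ?_ ?_
    · rw [← hpull, ← resM_pullSec] at he'
      exact he'
    · show σ' _ ∈ U z
      rw [X.fromSpecResidueField_apply]
      exact (hU' z).1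
  rw [glocus_pullSec σ' hL] at hzg
  have hzg' : σ' (IsLocalRing.closedPoint (X.residueField z)) ∈ glocus L m := hzg
  rwa [X.fromSpecResidueField_apply] at hzg'

end Groth.Agent.PicLib
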