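import Groth.Agent.PicLib.Invertible
import Groth.Prelude.Def_PicLoc

/-!
# Pullback of local generators of invertible sheaves

`pullSec σ g` is the section of `σ^* L` over `σ ⁻¹ U` induced by `g ∈ Γ(L, U)`; if `g` is a generator so is
`pullSec σ g`.
-/

set_option autoImplicit false

universe u

open CategoryTheory CategoryTheory.Limits AlgebraicGeometry Opposite TopologicalSpace Groth.Agent.Coherent

namespace Groth.Agent.PicLib

variable {Y T : Scheme.{u}} (σ : T ⟶ Y) {L : Y.Modules} {U : Y.Opens}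

/-- The pullback of a section. -/
noncomputable def pullSec (g : Γ(L, U)) : Γ((Scheme.Modules.pullback σ).obj L, σ ⁻¹ᵁ U) :=
  ((Scheme.Modules.pullbackPushforwardAdjunction σ).unit.app L).app U g

theorem resM_pullSec {V : Y.Opens} (h : V ≤ U) (g : Γ(L, U)) :
    resM _ ((Opens.map σ.base).map (homOfLE h)).le (pullSec σ g) = pullSec σ (resM L h g) :=
  (app_resM ((Scheme.Modules.pullbackPushforwardAdjunction σ).unit.app L) h g).symm

theorem pullSec_smul (r : Γ(Y, U)) (g : Γ(L, U)) :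
    pullSec σ (r • g) = σ.app U r • pullSec σ g :=
  Scheme.Modules.Hom.app_smul _ r g

theorem homEquiv_symm_app_pullSec {M : T.Modules} (φ : L ⟶ (Scheme.Modules.pushforward σ).obj M)
    (g : Γ(L, U)) :
    (((Scheme.Modules.pullbackPushforwardAdjunction σ).homEquiv _ _).symm φ).app (σ ⁻¹ᵁ U) (pullSec σ g) =
      φ.app U g := by
  conv_rhs => rw [← ((Scheme.Modules.pullbackPushforwardAdjunction σ).homEquiv _ _).apply_symm_apply φ]
  rw [Adjunction.homEquiv_unit]
  rfl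

variable {g : Γ(L, U)} (hg : IsGen L U g)
include hg

/-- A coordinate function on `σ^* L` over `σ ⁻¹ U`. -/
theorem exists_pullback_coordinate :
    ∃ ψ : (Scheme.Modules.pullback σ).obj L ⟶
      (Scheme.Modules.pushforward (σ ⁻¹ᵁ U).ι).obj (Coh.structureModule (σ ⁻¹ᵁ U).toScheme),
      (show Γ((σ ⁻¹ᵁ U).toScheme, (σ ⁻¹ᵁ U).ι ⁻¹ᵁ (σ ⁻¹ᵁ U)) from ψ.app (σ ⁻¹ᵁ U) (pullSec σ g)) = 1 := by
  let j := (σ ⁻¹ᵁ U).ι ≫ σ
  let M := (Scheme.Modules.pushforward σ).obj ((Scheme.Modules.pushforward (σ ⁻¹ᵁ U).ι).obj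
    (Coh.structureModule (σ ⁻¹ᵁ U).toScheme))
  have hle : ∀ W : Y.Opens, j ⁻¹ᵁ W ≤ j ⁻¹ᵁ (W ⊓ U) := fun W z hz => ⟨hz, z.2⟩
  let e : ∀ W : Y.Opens, Γ(L, W) → Γ((σ ⁻¹ᵁ U).toScheme, j ⁻¹ᵁ W) := fun W x =>
    j.appLE (W ⊓ U) (j ⁻¹ᵁ W) (hle W) (hg.coef inf_le_right (resM L inf_le_left x))
  have hnat : ∀ {V W : Y.Opens} (h : W ≤ V) (x : Γ(L, V)), e W (resM L h x) =
      res ((Opens.map j.base).map (homOfLE h)).le (e V x) := by
    intro V W h x
    show j.appLE _ _ _ (hg.coef _ (resM L _ (resM L h x))) = res _ (j.appLE _ _ _ _)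
    rw [resM_resM, ← resM_resM L inf_le_left (inf_le_inf_right U h) x,
      hg.coef_res inf_le_right (inf_le_inf_right U h)]
    show (Y.presheaf.map _ ≫ j.appLE _ _ _) _ = (j.appLE _ _ _ ≫ ((σ ⁻¹ᵁ U).toScheme).presheaf.map _) _
    rw [Scheme.Hom.map_appLE, Scheme.Hom.appLE_map]
  have hadd : ∀ (W : Y.Opens) (x y : Γ(L, W)), e W (x + y) = e W x + e W y := fun W x y => by
    show j.appLE _ _ _ _ = j.appLE _ _ _ _ + j.appLE _ _ _ _
    rw [map_add, hg.coef_add, map_add]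
  have hlin : ∀ (W : Y.Opens) (r : Γ(Y, W)) (x : Γ(L, W)), e W (r • x) = j.app W r * e W x := fun W r x => by
    show j.appLE _ _ _ _ = _ * j.appLE _ _ _ _
    rw [resM_smul, hg.coef_smul, map_mul]
    refine congrArg (· * _) ?_
    show (Y.presheaf.map _ ≫ j.appLE _ _ _) _ = j.app _ _
    rw [Scheme.Hom.map_appLE, Scheme.Hom.appLE_eq_app]
  let eA : ∀ W : Y.Opens, Γ(L, W) →+ Γ(M, W) := fun W =>
    AddMonoidHom.mk' (fun x => (show Γ(M, W) from e W x)) (hadd W)
  let φ₀ : L.val ⟶ M.val := PresheafOfModules.homMk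
    { app := fun W => AddCommGrpCat.ofHom (eA W.unop)
      naturality := fun V W f => ConcreteCategory.hom_ext _ _ fun x => hnat (leOfHom f.unop) x }
    (fun W r x => hlin W.unop r x)
  let φ : L ⟶ M := ⟨φ₀⟩
  refine ⟨((Scheme.Modules.pullbackPushforwardAdjunction σ).homEquiv _ _).symm φ, ?_⟩
  rw [homEquiv_symm_app_pullSec]
  show e U g = 1
  show j.appLE _ _ _ _ = _
  rw [hg.coef_self]
  exact map_one _

/-- If the pullback of a generator is a multiple, the multiplier is a unit. -/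
theorem isUnit_of_pullSec_eq_smul {V : T.Opens} (h : V ≤ σ ⁻¹ᵁ U) {b : Γ(T, V)}
    {z : Γ((Scheme.Modules.pullback σ).obj L, V)} (he : resM _ h (pullSec σ g) = b • z) : IsUnit b := by
  obtain ⟨ψ, hψ⟩ := exists_pullback_coordinate σ hg
  let ι := (σ ⁻¹ᵁ U).ι
  have h2 : res ((Opens.map ι.base).map (homOfLE h)).le
      (show Γ((σ ⁻¹ᵁ U).toScheme, ι ⁻¹ᵁ (σ ⁻¹ᵁ U)) from ψ.app (σ ⁻¹ᵁ U) (pullSec σ g)) =
      ι.app V b * (show Γ((σ ⁻¹ᵁ U).toScheme, ι ⁻¹ᵁ V) from ψ.app V z) := by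
    refine (app_resM ψ h (pullSec σ g)).symm.trans ?_
    rw [he, Scheme.Modules.Hom.app_smul]
    rfl
  rw [hψ, map_one] at h2
  have h3 : IsUnit (ι.app V b) := IsUnit.of_mul_eq_one _ h2.symm
  have : IsIso (ι.app V) := ι.isIso_app _ (by rw [Scheme.Opens.opensRange_ι]; exact h)
  exact (isUnit_map_iff (ι.app V).hom b).1 h3

/-- The pullback of a generator is a generator. -/
theorem isGen_pullSec (hL : PicF.IsInvertible L) :
    IsGen ((Scheme.Modules.pullback σ).obj L) (σ ⁻¹ᵁ U) (pullSec σ g) := by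
  obtain ⟨W, z, hmem, hz⟩ := exists_cover (PicLoc.isInvertible_pullback σ hL)
  refine isGen_of_cover (fun y => (σ ⁻¹ᵁ U) ⊓ W y) (fun y => inf_le_left)
    (fun y hy => Opens.mem_iSup.2 ⟨y, hy, hmem y⟩) fun y => ?_
  have h1 := (hz y).coef_spec inf_le_right (resM _ (inf_le_left : (σ ⁻¹ᵁ U) ⊓ W y ≤ σ ⁻¹ᵁ U) (pullSec σ g))
  have hu := isUnit_of_pullSec_eq_smul σ hg inf_le_left h1.symm
  obtain ⟨w, hw⟩ := hu
  rw [← h1, ← hw]
  exact ((hz y).restrict inf_le_right).smul_unit w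

omit hg

/-- If `σ^♯` is bijective, so is the unit of the adjunction on an invertible module. -/
theorem bijective_pullSec (hσ : ∀ V : Y.Opens, Function.Bijective (σ.app V)) (hL : PicF.IsInvertible L)
    (U : Y.Opens) : Function.Bijective (pullSec σ : Γ(L, U) → _) := by
  obtain ⟨W, z, hmem, hz⟩ := exists_cover hL
  let F := (Scheme.Modules.pushforward σ).obj ((Scheme.Modules.pullback σ).obj L)
  let η : L ⟶ F := (Scheme.Modules.pullbackPushforwardAdjunction σ).unit.app L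
  have hloc : ∀ (y : Y) (V : Y.Opens) (h : V ≤ W y), Function.Bijective (pullSec σ : Γ(L, V) → _) := by
    intro y V h
    have h1 := isGen_pullSec σ ((hz y).restrict h) hL (σ ⁻¹ᵁ V) le_rfl
    simp only [resM_self] at h1
    have h0 : Function.Bijective (fun r : Γ(Y, V) => r • resM L h (z y)) := hz y V h
    refine (Function.Bijective.of_comp_iff _ h0).1 ?_
    convert h1.comp (hσ V) using 1
    funext r
    exact pullSec_smul σ r _
  have hcov : ∀ V : Y.Opens, V ≤ ⨆ y, V ⊓ W y := fun V x hx => Opens.mem_iSup.2 ⟨x, hx, hmem x⟩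
  have hinj : ∀ V : Y.Opens, Function.Injective (pullSec σ : Γ(L, V) → _) := by
    intro V a b hab
    refine TopCat.Sheaf.eq_of_locally_eq' (⟨L.presheaf, L.isSheaf⟩ : TopCat.Sheaf Ab Y)
      (fun y => V ⊓ W y) V (fun y => homOfLE inf_le_left) (hcov V) a b fun y => (hloc y _ inf_le_right).1 ?_
    exact ((resM_pullSec σ inf_le_left a).symm.trans (congrArg _ hab)).trans (resM_pullSec σ inf_le_left b)
  refine ⟨hinj U, fun t => ?_⟩
  let t' : Γ(F, U) := t
  choose x hx using fun y => (hloc y (U ⊓ W y) inf_le_right).2 (resM F (inf_le_left : U ⊓ W y ≤ U) t')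
  obtain ⟨a, ha⟩ : ∃ a : Γ(L, U), ∀ y, resM L (inf_le_left : U ⊓ W y ≤ U) a = x y := by
    refine (TopCat.Sheaf.existsUnique_gluing' (⟨L.presheaf, L.isSheaf⟩ : TopCat.Sheaf Ab Y)
      (fun y => U ⊓ W y) U (fun y => homOfLE inf_le_left) (hcov U) x (fun y y' => hinj _ ?_)).exists
    show η.app _ (resM L _ (x y)) = η.app _ (resM L _ (x y'))
    rw [app_resM, app_resM]
    show resM F _ (pullSec σ (x y)) = resM F _ (pullSec σ (x y'))
    rw [hx, hx]
    exact (resM_resM F _ _ t').trans (resM_resM F _ _ t').symm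
  refine ⟨a, TopCat.Sheaf.eq_of_locally_eq' (⟨F.presheaf, F.isSheaf⟩ : TopCat.Sheaf Ab Y)
      (fun y => U ⊓ W y) U (fun y => homOfLE inf_le_left) (hcov U) _ t' fun y => ?_⟩
  show resM F inf_le_left (η.app U a) = resM F inf_le_left t'
  rw [← app_resM, ha y]
  exact hx y

/-- A morphism sending local generators to generators is an isomorphism. -/
theorem isIso_of_gens {L M : Y.Modules} (φ : L ⟶ M) {ι : Type u} (U : ι → Y.Opens) (hU : iSup U = ⊤)
    (s : ∀ i, Γ(L, U i)) (hs : ∀ i, IsGen L (U i) (s i)) (ht : ∀ i, IsGen M (U i) (φ.app (U i) (s i))) :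
    IsIso φ := by
  obtain ⟨ψ, hψ⟩ := exists_hom_of_gen U hU (fun i => φ.app (U i) (s i)) ht s (fun i j W hi hj c hc => by
    have hd := (hs j).coef_spec hj (resM L hi (s i))
    have h2 := congrArg (φ.app W) hd
    rw [Scheme.Modules.Hom.app_smul, app_resM, app_resM, hc] at h2
    rw [← hd, (ht j W hj).1 h2])
  refine ⟨ψ, hom_ext_gen U hU s hs _ _ fun i => ?_, hom_ext_gen U hU _ ht _ _ fun i => ?_⟩
  · exact hψ i
  · exact congrArg _ (hψ i)

/-- A generator from an isomorphism of the restriction with the structure sheaf. -/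
theorem exists_isGen_of_iso {W : Y.Opens} (e : L.restrict W.ι ≅ Coh.structureModule W.toScheme) :
    ∃ s : Γ(L, W), IsGen L W s := by
  let t : Γ(L.restrict W.ι, ⊤) := unitVal e.inv ⊤
  refine ⟨resM L (Scheme.Opens.ι_image_top W).ge ((L.restrictAppIso W.ι ⊤).hom t), fun V hV => ?_⟩
  obtain ⟨V', rfl⟩ : ∃ V' : W.toScheme.Opens, W.ι ''ᵁ V' = V := ⟨W.ι ⁻¹ᵁ V, by
    rw [W.ι.image_preimage_eq_opensRange_inf, Scheme.Opens.opensRange_ι, inf_eq_right]; exact hV⟩
  have hb1 := ConcreteCategory.bijective_of_isIso (e.inv.app V')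
  have hb2 := ConcreteCategory.bijective_of_isIso (L.restrictAppIso W.ι V').hom
  have hb3 := ConcreteCategory.bijective_of_isIso (W.ι.appIso V').hom
  convert hb2.comp (hb1.comp hb3) using 1
  funext r
  show r • resM L hV (resM L _ ((L.restrictAppIso W.ι ⊤).hom (unitVal e.inv ⊤))) =
    (L.restrictAppIso W.ι V').hom (e.inv.app V' ((W.ι.appIso V').hom r))
  refine Eq.trans ?_ (congrArg (L.restrictAppIso W.ι V').hom (app_unit e.inv ((W.ι.appIso V').hom r))).symm
  rw [← resM_unitVal e.inv (le_top : V' ≤ ⊤), resM_resM]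
  refine Eq.trans ?_ (Scheme.Modules.smul_restrictAppIso_hom_apply W.ι L V' ((W.ι.appIso V').hom r) _).symm
  rw [← ConcreteCategory.comp_apply (W.ι.appIso V').hom, Iso.hom_inv_id]
  rfl

end Groth.Agent.PicLib
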