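import Groth.Agent.Coherent.FiniteType
import Groth.Prelude.Def_Pic

/-!
# Invertible sheaves through local generators

`IsGen L U s`: the section `s` is a free generator of `L` on `U`.
-/

set_option autoImplicit false

universe u

open CategoryTheory CategoryTheory.Limits AlgebraicGeometry Opposite TopologicalSpace Groth.Agent.Coherent

namespace Groth.Agent.PicLib

variable {X : Scheme.{u}}

/-- Restriction of functions. -/
noncomputable abbrev res {U V : X.Opens} (h : V ≤ U) : Γ(X, U) →+* Γ(X, V) :=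
  (X.presheaf.map (homOfLE h).op).hom

theorem res_res {U V W : X.Opens} (h : V ≤ U) (h' : W ≤ V) (r : Γ(X, U)) :
    res h' (res h r) = res (h'.trans h) r :=
  (ConcreteCategory.congr_hom (X.presheaf.map_comp (homOfLE h).op (homOfLE h').op) r).symm

theorem resM_self (M : X.Modules) {U : X.Opens} (h : U ≤ U) (x : Γ(M, U)) : resM M h x = x :=
  ConcreteCategory.congr_hom (M.presheaf.map_id (op U)) x

/-- `s` freely generates `L` on `U`. -/
def IsGen (L : X.Modules) (U : X.Opens) (s : Γ(L, U)) : Prop :=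
  ∀ (V : X.Opens) (h : V ≤ U), Function.Bijective (fun r : Γ(X, V) => r • resM L h s)

namespace IsGen

variable {L : X.Modules} {U : X.Opens} {s : Γ(L, U)} (hs : IsGen L U s)

include hs

theorem restrict {V : X.Opens} (h : V ≤ U) : IsGen L V (resM L h s) := by
  intro W hW
  simpa only [resM_resM] using hs W (hW.trans h)

/-- The coordinate of a section in the generator. -/
noncomputable def coef {V : X.Opens} (h : V ≤ U) (x : Γ(L, V)) : Γ(X, V) :=
  ((hs V h).2 x).choose

theorem coef_spec {V : X.Opens} (h : V ≤ U) (x : Γ(L, V)) : hs.coef h x • resM L h s = x :=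
  ((hs V h).2 x).choose_spec

theorem coef_eq {V : X.Opens} (h : V ≤ U) {x : Γ(L, V)} {r : Γ(X, V)} (hr : r • resM L h s = x) :
    hs.coef h x = r :=
  (hs V h).1 ((hs.coef_spec h x).trans hr.symm)

theorem coef_res {V W : X.Opens} (h : V ≤ U) (h' : W ≤ V) (x : Γ(L, V)) :
    hs.coef (h'.trans h) (resM L h' x) = res h' (hs.coef h x) := by
  refine hs.coef_eq _ ?_
  conv_rhs => rw [← hs.coef_spec h x]
  rw [resM_smul, resM_resM]

theorem coef_add {V : X.Opens} (h : V ≤ U) (x y : Γ(L, V)) :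
    hs.coef h (x + y) = hs.coef h x + hs.coef h y :=
  hs.coef_eq h (by rw [add_smul, hs.coef_spec, hs.coef_spec])

theorem coef_smul {V : X.Opens} (h : V ≤ U) (a : Γ(X, V)) (x : Γ(L, V)) :
    hs.coef h (a • x) = a * hs.coef h x :=
  hs.coef_eq h (by rw [mul_smul, hs.coef_spec])

theorem coef_self {V : X.Opens} (h : V ≤ U) : hs.coef h (resM L h s) = 1 :=
  hs.coef_eq h (one_smul _ _)

theorem smul_unit (u : Γ(X, U)ˣ) : IsGen L U ((u : Γ(X, U)) • s) := by
  intro V h
  have hu : IsUnit (res h (u : Γ(X, U))) := u.isUnit.map _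
  obtain ⟨w, hw⟩ := hu
  have : (fun r : Γ(X, V) => r • resM L h ((u : Γ(X, U)) • s)) =
      (fun r : Γ(X, V) => r • resM L h s) ∘ (fun r => r * (w : Γ(X, V))) := by
    funext r
    simp only [Function.comp_apply, resM_smul, mul_smul, hw]
  rw [this]
  exact (hs V h).comp (Units.mulRight_bijective w)

/-- A second generator differs by a unit. -/
theorem isUnit_coef {s' : Γ(L, U)} (hs' : IsGen L U s') : IsUnit (hs.coef le_rfl s') := by
  have h1 : hs.coef le_rfl s' * hs'.coef le_rfl s = 1 := by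
    refine (hs U le_rfl).1 ?_
    show (hs.coef le_rfl s' * hs'.coef le_rfl s) • resM L le_rfl s = (1 : Γ(X, U)) • resM L le_rfl s
    rw [mul_comm, mul_smul, hs.coef_spec, one_smul, resM_self]
    simpa only [resM_self] using hs'.coef_spec le_rfl s
  exact IsUnit.of_mul_eq_one _ h1

end IsGen

/-- Invertible sheaves have generators locally. -/
theorem exists_isGen {L : X.Modules} (hL : PicF.IsInvertible L) (y : X) :
    ∃ (U : X.Opens), y ∈ U ∧ ∃ s : Γ(L, U), IsGen L U s := by
  obtain ⟨U, hy, ⟨e⟩⟩ := hL y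
  let s : Γ(L, U.ι ''ᵁ ⊤) := (L.restrictAppIso U.ι ⊤).hom (unitVal e.inv ⊤)
  refine ⟨U.ι ''ᵁ ⊤, (Scheme.Opens.ι_image_top U).ge hy, s, fun V hV => ?_⟩
  obtain ⟨W, rfl⟩ : ∃ W : U.toScheme.Opens, U.ι ''ᵁ W = V := by
    refine ⟨U.ι ⁻¹ᵁ V, ?_⟩
    rw [U.ι.image_preimage_eq_opensRange_inf, Scheme.Opens.opensRange_ι, inf_eq_right]
    exact hV.trans (Scheme.Opens.ι_image_top U).le
  have hiso : IsIso (e.inv.app W) := inferInstance
  have hb1 := ConcreteCategory.bijective_of_isIso (e.inv.app W)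
  have hb2 := ConcreteCategory.bijective_of_isIso (L.restrictAppIso U.ι W).hom
  have hb3 := ConcreteCategory.bijective_of_isIso (U.ι.appIso W).hom
  have : (fun r : Γ(X, U.ι ''ᵁ W) => r • resM L hV s) =
      fun r => (L.restrictAppIso U.ι W).hom (e.inv.app W ((U.ι.appIso W).hom r)) := by
    funext r
    refine Eq.trans ?_ (congrArg (L.restrictAppIso U.ι W).hom (app_unit e.inv ((U.ι.appIso W).hom r))).symm
    rw [← resM_unitVal e.inv (le_top : W ≤ ⊤)]
    refine Eq.trans ?_ (Scheme.Modules.smul_restrictAppIso_hom_apply U.ι L W ((U.ι.appIso W).hom r) _).symm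
    rw [← ConcreteCategory.comp_apply (U.ι.appIso W).hom, Iso.hom_inv_id]
    rfl
  rw [this]
  exact hb2.comp (hb1.comp hb3)

theorem exists_cover {L : X.Modules} (hL : PicF.IsInvertible L) :
    ∃ (U : X → X.Opens) (s : ∀ y, Γ(L, U y)), (∀ y, y ∈ U y) ∧ ∀ y, IsGen L (U y) (s y) := by
  choose U hy s hs using fun y => exists_isGen hL y
  exact ⟨U, s, hy, hs⟩

/-- Being a generator is local. -/
theorem isGen_of_cover {L : X.Modules} {U₀ : X.Opens} {s₀ : Γ(L, U₀)} {ι : Type u} (U : ι → X.Opens)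
    (hle : ∀ i, U i ≤ U₀) (hcov : U₀ ≤ iSup U) (h : ∀ i, IsGen L (U i) (resM L (hle i) s₀)) :
    IsGen L U₀ s₀ := by
  intro V hV
  have hcV : V ≤ ⨆ i, V ⊓ U i := by rw [← inf_iSup_eq]; exact le_inf le_rfl (hV.trans hcov)
  constructor
  · intro a b hab
    refine TopCat.Sheaf.eq_of_locally_eq' X.sheaf (fun i => V ⊓ U i) V (fun i => homOfLE inf_le_left) hcV a b fun i => ?_
    refine ((h i) (V ⊓ U i) inf_le_right).1 ?_
    have h2 := congrArg (resM L (inf_le_left : V ⊓ U i ≤ V)) hab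
    simp only [resM_smul, resM_resM] at h2 ⊢
    exact h2
  · intro x
    let c : ∀ i, Γ(X, V ⊓ U i) := fun i => (h i).coef inf_le_right (resM L inf_le_left x)
    have hc : ∀ i, c i • resM L ((inf_le_left : V ⊓ U i ≤ V).trans hV) s₀ = resM L inf_le_left x := fun i => by
      have := (h i).coef_spec inf_le_right (resM L (inf_le_left : V ⊓ U i ≤ V) x)
      simpa only [resM_resM] using this
    obtain ⟨a, ha⟩ : ∃ a : Γ(X, V), ∀ i, X.presheaf.map (homOfLE (inf_le_left : V ⊓ U i ≤ V)).op a = c i :=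
      (TopCat.Sheaf.existsUnique_gluing' X.sheaf (fun i => V ⊓ U i) V
      (fun i => homOfLE inf_le_left) hcV c (fun i j => by
        refine ((h i) ((V ⊓ U i) ⊓ (V ⊓ U j)) (inf_le_left.trans inf_le_right)).1 ?_
        have hi := congrArg (resM L (inf_le_left : (V ⊓ U i) ⊓ (V ⊓ U j) ≤ V ⊓ U i)) (hc i)
        have hj := congrArg (resM L (inf_le_right : (V ⊓ U i) ⊓ (V ⊓ U j) ≤ V ⊓ U j)) (hc j)
        simp only [resM_smul, resM_resM] at hi hj ⊢
        exact hi.trans hj.symm)).exists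
    refine ⟨a, TopCat.Sheaf.eq_of_locally_eq' (⟨L.presheaf, L.isSheaf⟩ : TopCat.Sheaf Ab X)
      (fun i => V ⊓ U i) V (fun i => homOfLE inf_le_left) hcV _ _ fun i => ?_⟩
    show resM L (inf_le_left : V ⊓ U i ≤ V) ((a : Γ(X, V)) • resM L hV s₀) = resM L inf_le_left x
    rw [resM_smul, resM_resM, show X.presheaf.map (homOfLE (inf_le_left : V ⊓ U i ≤ V)).op a = c i from ha i]
    exact hc i

/-- Morphisms out of a locally generated module agree once they agree on generators. -/
theorem hom_ext_gen {L M : X.Modules} {ι : Type u} (U : ι → X.Opens) (hU : iSup U = ⊤)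
    (s : ∀ i, Γ(L, U i)) (hs : ∀ i, IsGen L (U i) (s i)) (φ ψ : L ⟶ M)
    (h : ∀ i, φ.app (U i) (s i) = ψ.app (U i) (s i)) : φ = ψ := by
  refine Scheme.Modules.hom_ext _ _ fun V => ConcreteCategory.hom_ext _ _ fun x => ?_
  have hcV : V ≤ ⨆ i, V ⊓ U i := by rw [← inf_iSup_eq, hU, inf_top_eq]
  refine TopCat.Sheaf.eq_of_locally_eq' (⟨M.presheaf, M.isSheaf⟩ : TopCat.Sheaf Ab X)
    (fun i => V ⊓ U i) V (fun i => homOfLE inf_le_left) hcV _ _ fun i => ?_
  show resM M (inf_le_left : V ⊓ U i ≤ V) (φ.app V x) = resM M inf_le_left (ψ.app V x)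
  rw [← app_resM, ← app_resM, ← (hs i).coef_spec inf_le_right (resM L (inf_le_left : V ⊓ U i ≤ V) x),
    Scheme.Modules.Hom.app_smul, Scheme.Modules.Hom.app_smul, app_resM, app_resM, h i]

/-- A morphism given on generators. -/
theorem exists_hom_of_gen {L M : X.Modules} {ι : Type u} (U : ι → X.Opens) (hU : iSup U = ⊤)
    (s : ∀ i, Γ(L, U i)) (hs : ∀ i, IsGen L (U i) (s i)) (t : ∀ i, Γ(M, U i))
    (hc : ∀ (i j : ι) (W : X.Opens) (hi : W ≤ U i) (hj : W ≤ U j) (c : Γ(X, W)),
      resM L hi (s i) = c • resM L hj (s j) → resM M hi (t i) = c • resM M hj (t j)) :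
    ∃ φ : L ⟶ M, ∀ i, φ.app (U i) (s i) = t i := by
  have hcV : ∀ V : X.Opens, V ≤ ⨆ i, V ⊓ U i := fun V => by rw [← inf_iSup_eq, hU, inf_top_eq]
  have hext : ∀ {V : X.Opens} {a b : Γ(M, V)},
      (∀ i, resM M (inf_le_left : V ⊓ U i ≤ V) a = resM M inf_le_left b) → a = b := fun {V a b} h =>
    TopCat.Sheaf.eq_of_locally_eq' (⟨M.presheaf, M.isSheaf⟩ : TopCat.Sheaf Ab X)
      (fun i => V ⊓ U i) V (fun i => homOfLE inf_le_left) (hcV V) a b h
  let v : ∀ (V : X.Opens) (x : Γ(L, V)) (i : ι), Γ(M, V ⊓ U i) := fun V x i =>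
    (hs i).coef inf_le_right (resM L inf_le_left x) • resM M inf_le_right (t i)
  -- the local values restrict correctly
  have hv : ∀ (V : X.Opens) (x : Γ(L, V)) (i : ι) (W : X.Opens) (h : W ≤ V ⊓ U i),
      resM M h (v V x i) = (hs i).coef (h.trans inf_le_right) (resM L (h.trans inf_le_left) x) •
        resM M (h.trans inf_le_right) (t i) := by
    intro V x i W h
    show resM M h (_ • _) = _
    rw [resM_smul, resM_resM]
    refine congrArg (· • _) ?_
    rw [← resM_resM L inf_le_left h x, (hs i).coef_res inf_le_right h]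
  have hcomp : ∀ (V : X.Opens) (x : Γ(L, V)), ∃ y : Γ(M, V),
      ∀ i, resM M (inf_le_left : V ⊓ U i ≤ V) y = v V x i := by
    intro V x
    refine (TopCat.Sheaf.existsUnique_gluing' (⟨M.presheaf, M.isSheaf⟩ : TopCat.Sheaf Ab X)
      (fun i => V ⊓ U i) V (fun i => homOfLE inf_le_left) (hcV V) (v V x) (fun i j => ?_)).exists
    show resM M (inf_le_left : (V ⊓ U i) ⊓ (V ⊓ U j) ≤ V ⊓ U i) (v V x i) =
        resM M (inf_le_right : (V ⊓ U i) ⊓ (V ⊓ U j) ≤ V ⊓ U j) (v V x j)
    rw [hv, hv]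
    set W := (V ⊓ U i) ⊓ (V ⊓ U j)
    have hi : W ≤ U i := inf_le_left.trans inf_le_right
    have hj : W ≤ U j := inf_le_right.trans inf_le_right
    rw [hc i j W hi hj ((hs j).coef hj (resM L hi (s i))) ((hs j).coef_spec hj _).symm, ← mul_smul]
    refine congrArg (· • _) ?_
    refine ((hs j).coef_eq hj ?_).symm
    rw [mul_smul, (hs j).coef_spec, (hs i).coef_spec]
  choose y hy using hcomp
  let app : ∀ V : X.Opens, Γ(L, V) →+ Γ(M, V) := fun V => AddMonoidHom.mk' (y V) fun a b => hext fun i => by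
    rw [map_add, hy, hy, hy]
    show _ • _ = _ • _ + _ • _
    rw [map_add, (hs i).coef_add, add_smul]
  have hnat : ∀ {V W : X.Opens} (h : W ≤ V) (x : Γ(L, V)), y W (resM L h x) = resM M h (y V x) := fun {V W} h x =>
    hext fun i => by
      rw [hy, resM_resM, ← resM_resM M inf_le_left (inf_le_inf_right (U i) h), hy V x i, hv]
      show _ • _ = _
      rw [resM_resM]
  have hlin : ∀ (V : X.Opens) (r : Γ(X, V)) (x : Γ(L, V)), y V (r • x) = r • y V x := fun V r x => hext fun i => by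
    rw [hy, resM_smul, hy]
    show _ • _ = _
    rw [resM_smul, (hs i).coef_smul, mul_smul]
  let φ₀ : L.val ⟶ M.val := PresheafOfModules.homMk
    { app := fun V => AddCommGrpCat.ofHom (app V.unop)
      naturality := fun V W f => ConcreteCategory.hom_ext _ _ fun x => hnat (leOfHom f.unop) x }
    (fun V r x => hlin V.unop r x)
  refine ⟨⟨φ₀⟩, fun i => hext fun j => ?_⟩
  show resM M inf_le_left (y (U i) (s i)) = resM M inf_le_left (t i)
  rw [hy]
  show _ • _ = _
  exact (hc i j (U i ⊓ U j) inf_le_left inf_le_right _ ((hs j).coef_spec inf_le_right _).symm).symm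

/-- A map from the structure sheaf whose value is a generator is an isomorphism. -/
theorem isIso_of_isGen {L : X.Modules} (φ : Coh.structureModule X ⟶ L) (h : IsGen L ⊤ (unitVal φ ⊤)) :
    IsIso φ := by
  rw [Scheme.Modules.Hom.isIso_iff_isIso_app]
  intro V
  rw [ConcreteCategory.isIso_iff_bijective]
  have h1 := h V le_top
  simp only [resM_unitVal] at h1
  exact ⟨fun a b e => h1.1 (((app_unit φ a).symm.trans e).trans (app_unit φ b)),
    fun x => (h1.2 x).imp fun r hr => (app_unit φ r).trans hr⟩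

/-- Restriction of a module with a generator is free. -/
theorem nonempty_restrict_iso {L : X.Modules} {U : X.Opens} {s : Γ(L, U)} (hs : IsGen L U s) :
    Nonempty (L.restrict U.ι ≅ Coh.structureModule U.toScheme) := by
  let t : Γ(L.restrict U.ι, ⊤) := (L.restrictAppIso U.ι ⊤).inv (resM L (Scheme.Opens.ι_image_top U).le s)
  have : IsIso (unitDesc (L.restrict U.ι) t) := by
    refine isIso_of_isGen _ ?_
    rw [unitVal_unitDesc, resM_self]
    intro W hW
    have hb := hs (U.ι ''ᵁ W) ((U.ι.image_mono hW).trans (Scheme.Opens.ι_image_top U).le)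
    have hb3 := ConcreteCategory.bijective_of_isIso (U.ι.appIso W).inv
    have hb2 := ConcreteCategory.bijective_of_isIso (L.restrictAppIso U.ι W).hom
    refine (Function.Bijective.of_comp_iff' hb2 _).1 ?_
    convert hb.comp hb3 using 1
    funext r
    refine (Scheme.Modules.smul_restrictAppIso_hom_apply U.ι L W r _).trans ?_
    show _ • _ = _ • _
    rw [← resM_resM L (Scheme.Opens.ι_image_top U).le (U.ι.image_mono hW) s]
    rfl
  exact ⟨(asIso (unitDesc (L.restrict U.ι) t)).symm⟩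

theorem isInvertible_of_gens {L : X.Modules}
    (h : ∀ y : X, ∃ U : X.Opens, y ∈ U ∧ ∃ s : Γ(L, U), IsGen L U s) : PicF.IsInvertible L := fun y => by
  obtain ⟨U, hy, s, hs⟩ := h y
  exact ⟨U, hy, nonempty_restrict_iso hs⟩

end Groth.Agent.PicLib
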