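import Groth.Agent.VarietyLib.StarGlue

/-!
# Invertible modules from unit cocycles

Sections over `W` are families of functions on the `W ⊓ U i` transformed into each other by the
cocycle.
-/

set_option autoImplicit false
set_option backward.isDefEq.respectTransparency.types false

universe u

open CategoryTheory CategoryTheory.Limits AlgebraicGeometry Opposite TopologicalSpace
open Groth.Agent.Coherent Groth.Agent.PicLib Groth.Agent.VarietyLib

namespace Groth.Agent.PicLib.CocycleGlue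

variable {X : Scheme.{u}} {ι : Type u} (U : ι → X.Opens) (η : ∀ i j : ι, (Γ(X, U i ⊓ U j))ˣ)

/-- The values at a point: a stalk element in each chart through the point. -/
abbrev Val (x : X) : Type u := {i : ι // x ∈ U i} → X.presheaf.stalk x

/-- The germ of a transition unit. -/
noncomputable def eta {x : X} (i j : {i : ι // x ∈ U i}) : X.presheaf.stalk x :=
  X.presheaf.germ (U i.1 ⊓ U j.1) x ⟨i.2, j.2⟩ (η i.1 j.1 : Γ(X, U i.1 ⊓ U j.1))

/-- Glued families. -/
def IsGlued {W : X.Opens} (f : ∀ x : W, Val U x.1) : Prop :=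
  (∀ i, ∃ r : Γ(X, W ⊓ U i), ∀ x (hW : x ∈ W) (hU : x ∈ U i),
      f ⟨x, hW⟩ ⟨i, hU⟩ = X.presheaf.germ (W ⊓ U i) x ⟨hW, hU⟩ r) ∧
    ∀ (x : W) (i j : {i : ι // x.1 ∈ U i}), f x j = f x i * eta U η i j

/-- The predicate of glued families. -/
def gluedLoc : TopCat.LocalPredicate (fun x : X => Val U x) where
  pred {W} f := IsGlued U η f
  res {V W} i f h := by
    refine ⟨fun k => ?_, fun x a b => h.2 ⟨x.1, i.le x.2⟩ a b⟩
    obtain ⟨r, hr⟩ := h.1 k
    exact ⟨PicLib.res (inf_le_inf_right (U k) i.le) r, fun x hV hU => by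
      rw [StarGlue.germ_resO]; exact hr x (i.le hV) hU⟩
  locality {W} f h := by
    choose V hxV iV hV hV' using h
    refine ⟨fun k => ?_, fun x a b => hV' x ⟨x.1, hxV x⟩ a b⟩
    obtain ⟨R, hR⟩ := StarGlue.exists_fun_of_germs (V := W ⊓ U k)
      (fun y hy => f ⟨y, hy.1⟩ ⟨k, hy.2⟩) fun y =>
      ⟨V ⟨y.1, y.2.1⟩ ⊓ U k, ⟨hxV _, y.2.2⟩, inf_le_inf_right _ (iV _).le,
        (hV ⟨y.1, y.2.1⟩ k).choose, fun z hz =>
          ((hV ⟨y.1, y.2.1⟩ k).choose_spec z hz.1 hz.2).symm⟩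
    exact ⟨R, fun x hW hU => (hR x ⟨hW, hU⟩).symm⟩

instance : Mero.IsModPred (gluedLoc U η) where
  zero W := ⟨fun i => ⟨0, fun x hW hU => by rw [map_zero]; rfl⟩,
    fun x a b => by simp⟩
  add W f g hf hg := ⟨fun i => by
      obtain ⟨r, hr⟩ := hf.1 i
      obtain ⟨r', hr'⟩ := hg.1 i
      exact ⟨r + r', fun x hW hU => by rw [map_add, Pi.add_apply, Pi.add_apply, hr, hr']⟩,
    fun x a b => by
      rw [Pi.add_apply, Pi.add_apply, Pi.add_apply, hf.2 x a b, hg.2 x a b, add_mul]⟩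
  smul W c f hf := ⟨fun i => by
      obtain ⟨r, hr⟩ := hf.1 i
      exact ⟨PicLib.res inf_le_left c * r, fun x hW hU => by
        show X.presheaf.germ W x hW c • f ⟨x, hW⟩ ⟨i, hU⟩ = _
        rw [map_mul, StarGlue.germ_resO, hr, smul_eq_mul]⟩,
    fun x a b => by
      show X.presheaf.germ W x.1 x.2 c • f x b = X.presheaf.germ W x.1 x.2 c • f x a * _
      rw [hf.2 x a b, smul_eq_mul, smul_eq_mul, mul_assoc]⟩

/-- The module of the cocycle. -/
noncomputable def glue : X.Modules := Mero.modOf (gluedLoc U η)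

variable (hη : ∀ (x : X) (i j k : {i : ι // x ∈ U i}), eta U η i k = eta U η i j * eta U η j k)
include hη

theorem exists_chart (k : ι) : ∃ s : Γ(glue U η, U k), ∀ (x : U k) (j : {i : ι // x.1 ∈ U i}),
    s.1 x j = eta U η ⟨k, x.2⟩ j :=
  ⟨⟨fun x j => eta U η ⟨k, x.2⟩ j,
    fun i => ⟨(η k i : Γ(X, U k ⊓ U i)), fun _ _ _ => rfl⟩,
    fun x i j => hη x.1 ⟨k, x.2⟩ i j⟩, fun _ _ => rfl⟩

theorem eta_self {x : X} (i : {i : ι // x ∈ U i}) : eta U η i i = 1 := by
  have h : IsUnit (eta U η i i) := (η i.1 i.1).isUnit.map _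
  exact (h.mul_eq_left).1 (hη x i i i).symm

/-- An invertible module with prescribed transition units. -/
theorem exists_invertible (hU : iSup U = ⊤) :
    ∃ (L : X.Modules) (s : ∀ i, Γ(L, U i)), PicF.IsInvertible L ∧
      (∀ i, IsGen L (U i) (s i)) ∧
      ∀ i j, resM L (inf_le_left : U i ⊓ U j ≤ U i) (s i) =
        (η i j : Γ(X, U i ⊓ U j)) • resM L (inf_le_right : U i ⊓ U j ≤ U j) (s j) := by
  choose s hs using fun k => exists_chart U η hη k
  have hgen : ∀ i, IsGen (glue U η) (U i) (s i) := by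
    intro k V hV
    have hval : ∀ (r : Γ(X, V)) (x : V) (j : {i : ι // x.1 ∈ U i}),
        (r • resM (glue U η) hV (s k)).1 x j =
          X.presheaf.germ V x.1 x.2 r * eta U η ⟨k, hV x.2⟩ j := fun r x j => by
      show X.presheaf.germ V x.1 x.2 r • (s k).1 ⟨x.1, hV x.2⟩ j = _
      rw [hs, smul_eq_mul]
    refine ⟨fun a b hab => ?_, fun f => ?_⟩
    · refine TopCat.Presheaf.section_ext X.sheaf V a b fun x hx => ?_
      have h := congrArg (fun t : Γ(glue U η, V) => t.1 ⟨x, hx⟩ ⟨k, hV hx⟩) hab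
      simp only [hval, eta_self U η hη, mul_one] at h
      exact h
    · obtain ⟨r, hr⟩ := f.2.1 k
      refine ⟨PicLib.res (le_inf le_rfl hV) r, Subtype.ext (funext fun x => funext fun j => ?_)⟩
      rw [hval, StarGlue.germ_resO, ← hr x.1 x.2 (hV x.2), ← f.2.2 x]
  refine ⟨glue U η, s, isInvertible_of_gens fun y => ?_, hgen, fun i j => ?_⟩
  · obtain ⟨i, hi⟩ := Opens.mem_iSup.1 (hU.ge (trivial : y ∈ (⊤ : X.Opens)))
    exact ⟨U i, hi, s i, hgen i⟩
  · refine Subtype.ext (funext fun x => funext fun m => ?_)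
    show (s i).1 ⟨x.1, x.2.1⟩ m =
      X.presheaf.germ _ x.1 x.2 (η i j : Γ(X, U i ⊓ U j)) • (s j).1 ⟨x.1, x.2.2⟩ m
    rw [hs, hs, smul_eq_mul]
    exact hη x.1 ⟨i, x.2.1⟩ ⟨j, x.2.2⟩ m

end Groth.Agent.PicLib.CocycleGlue
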