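import Groth.Agent.PicLib.PicMonoid
import Groth.Agent.PicLib.FlatTriv
import Mathlib.AlgebraicGeometry.AffineScheme

/-!
# Invertible modules trivial outside a principal closed subscheme with integral support

If `ϖ` is regular and `ϖ = 0` is integral, a module trivial where `ϖ` is invertible is trivial.
-/

set_option autoImplicit false
set_option backward.isDefEq.respectTransparency.types false

universe u

open CategoryTheory CategoryTheory.Limits AlgebraicGeometry Opposite TopologicalSpace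
open Groth.Agent.Coherent Groth.Agent.AmpleLib

namespace Groth.Agent.PicLib

variable {P : Scheme.{u}} (ϖ : Γ(P, ⊤))

/-- `ϖ` on an open. -/
noncomputable abbrev resW (U : P.Opens) : Γ(P, U) := P.presheaf.map (homOfLE (le_top (a := U))).op ϖ

theorem resW_res {U V : P.Opens} (h : V ≤ U) : P.presheaf.map (homOfLE h).op (resW ϖ U) = resW ϖ V := by
  rw [resW, ← ConcreteCategory.comp_apply, ← Functor.map_comp]
  rfl

theorem inf_basicOpen (U : P.Opens) : P.basicOpen (resW ϖ U) = U ⊓ P.basicOpen ϖ := P.basicOpen_res _ _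

theorem isUnit_resW {V : P.Opens} (h : V ≤ P.basicOpen ϖ) : IsUnit (resW ϖ V) := by
  rw [← resW_res ϖ h]
  exact (RingedSpace.isUnit_res_basicOpen P.toRingedSpace ϖ).map (P.presheaf.map (homOfLE h).op).hom

variable {ϖ}

/-- Sections of an invertible module are determined where `ϖ` is invertible. -/
theorem resM_injective_of_regular (hreg : ∀ U : P.Opens, IsAffineOpen U → ∀ a, resW ϖ U * a = 0 → a = 0)
    {L : P.Modules} (hL : PicF.IsInvertible L) {V : P.Opens} {a b : Γ(L, V)}
    (h : resM L (inf_le_left : V ⊓ P.basicOpen ϖ ≤ V) a = resM L inf_le_left b) : a = b := by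
  refine sec_ext _ _ _ fun x hx => ?_
  obtain ⟨U, hxU, g, hg⟩ := exists_isGen hL x
  obtain ⟨W, hW, hxW, hWle⟩ := exists_isAffineOpen_mem_and_subset (x := x) (U := V ⊓ U) ⟨hx, hxU⟩
  refine ⟨W, fun z hz => (hWle hz).1, hxW, ?_⟩
  have hgW := hg.restrict (fun z hz => (hWle hz).2 : W ≤ U)
  rw [← sub_eq_zero, ← map_sub]
  have hc := hgW.coef_spec le_rfl (resM L (fun z hz => (hWle hz).1) (a - b))
  rw [resM_self] at hc
  generalize hgW.coef le_rfl (resM L (fun z hz => (hWle hz).1) (a - b)) = c at hc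
  rw [← hc]
  suffices hc0 : c = 0 by rw [hc0, zero_smul]
  have hle : P.basicOpen (resW ϖ W) ≤ V ⊓ P.basicOpen ϖ := (inf_basicOpen ϖ W).le.trans
    (inf_le_inf_right _ fun z hz => (hWle hz).1)
  have h0 : P.presheaf.map (homOfLE (P.basicOpen_le (resW ϖ W))).op c = 0 := by
    refine (hgW _ (P.basicOpen_le (resW ϖ W))).1 ?_
    show _ • _ = (0 : Γ(P, P.basicOpen (resW ϖ W))) • _
    rw [zero_smul, ← resM_smul, hc, resM_resM, map_sub, ← resM_resM L inf_le_left hle a,
      ← resM_resM L inf_le_left hle b, h, sub_self]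
  have := hW.isLocalization_basicOpen (resW ϖ W)
  obtain ⟨⟨_, n, rfl⟩, hn⟩ := (IsLocalization.map_eq_zero_iff (Submonoid.powers (resW ϖ W))
    Γ(P, P.basicOpen (resW ϖ W)) c).1 h0
  simp only at hn
  clear h0 hc
  induction n with
  | zero => rwa [pow_zero, one_mul] at hn
  | succ n ih => exact ih (hreg W hW _ (by rwa [← mul_assoc, ← pow_succ']))

/-- A divisor of a power of a prime is a unit times a power. -/
theorem exists_unit_mul_pow {A : Type*} [CommRing A] {p : A} (hreg : ∀ a, p * a = 0 → a = 0)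
    (hp : ∀ a b, p ∣ a * b → p ∣ a ∨ p ∣ b) :
    ∀ (N : ℕ) (a a' : A), a * a' = p ^ N → ∃ (j : ℕ) (u : Aˣ), a = u * p ^ j := by
  intro N
  induction N with
  | zero => exact fun a a' h => ⟨0, (IsUnit.of_mul_eq_one a' (by simpa using h)).unit, by simp⟩
  | succ N ih =>
    intro a a' h
    rcases hp a a' (h ▸ dvd_pow_self p (Nat.succ_ne_zero N)) with ⟨b, rfl⟩ | ⟨b, rfl⟩
    · obtain ⟨j, u, rfl⟩ := ih b a' (sub_eq_zero.1 (hreg _ (by rw [mul_sub, ← mul_assoc, h, pow_succ', sub_self])))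
      exact ⟨j + 1, u, by ring⟩
    · exact ih a b (sub_eq_zero.1 (hreg _ (by rw [mul_sub, ← mul_assoc, mul_comm p a, mul_assoc, h, pow_succ', sub_self])))

/-- If `L` has a generator where `ϖ` is invertible and `ϖ = 0` is integral, `L` is trivial. -/
theorem eq_one_of_gen_basicOpen (hreg : ∀ U : P.Opens, IsAffineOpen U → ∀ a, resW ϖ U * a = 0 → a = 0)
    (hp : ∀ U : P.Opens, IsAffineOpen U → ∀ a b, resW ϖ U ∣ a * b → resW ϖ U ∣ a ∨ resW ϖ U ∣ b)
    (hirr : ∀ U U' : P.Opens, ¬ U ≤ P.basicOpen ϖ → ¬ U' ≤ P.basicOpen ϖ → ¬ U ⊓ U' ≤ P.basicOpen ϖ)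
    {L : P.Modules} (hL : PicF.IsInvertible L) {t : Γ(L, P.basicOpen ϖ)} (ht : IsGen L (P.basicOpen ϖ) t) :
    PicM.of hL = 1 := by
  classical
  let D := P.basicOpen ϖ
  have hloc : ∀ x, ∃ (U : P.Opens) (g : Γ(L, U)) (j n : ℕ), IsAffineOpen U ∧ x ∈ U ∧ IsGen L U g ∧
      resW ϖ (U ⊓ D) ^ n • resM L (inf_le_right : U ⊓ D ≤ D) t = resW ϖ (U ⊓ D) ^ j • resM L inf_le_left g := by
    intro x
    obtain ⟨V, hxV, g₀, hg₀⟩ := exists_isGen hL x
    obtain ⟨U, hU, hxU, hUV⟩ := exists_isAffineOpen_mem_and_subset (x := x) (U := V) hxV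
    have hg := hg₀.restrict hUV
    let B := P.basicOpen (resW ϖ U)
    have hBU : B ≤ U := P.basicOpen_le _
    have hBD : B ≤ D := (inf_basicOpen ϖ U).le.trans inf_le_right
    have h1 := hg.restrict hBU
    have hu := h1.isUnit_coef (ht.restrict hBD)
    have hcs := h1.coef_spec le_rfl (resM L hBD t)
    rw [resM_self] at hcs
    generalize h1.coef le_rfl (resM L hBD t) = c at hcs hu
    have := hU.isLocalization_basicOpen (resW ϖ U)
    obtain ⟨⟨a, _, n, rfl⟩, ha⟩ := IsLocalization.surj (Submonoid.powers (resW ϖ U)) c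
    obtain ⟨w, hw⟩ := hu.exists_left_inv
    obtain ⟨⟨a', _, m, rfl⟩, ha'⟩ := IsLocalization.surj (Submonoid.powers (resW ϖ U)) w
    simp only at ha ha'
    have hmul : algebraMap Γ(P, U) Γ(P, B) (a * a') = algebraMap Γ(P, U) Γ(P, B) (resW ϖ U ^ (n + m)) := by
      rw [map_mul, ← ha, ← ha', pow_add, map_mul]
      linear_combination (algebraMap Γ(P, U) Γ(P, B) (resW ϖ U ^ n) * algebraMap Γ(P, U) Γ(P, B) (resW ϖ U ^ m)) * hw
    obtain ⟨⟨_, l, rfl⟩, hl⟩ := (IsLocalization.eq_iff_exists (Submonoid.powers (resW ϖ U)) Γ(P, B)).1 hmul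
    simp only at hl
    obtain ⟨j, u, hju⟩ := exists_unit_mul_pow (hreg U hU) (hp U hU) (l + (n + m)) a (resW ϖ U ^ l * a')
      (by linear_combination (norm := ring) hl)
    refine ⟨U, (u : Γ(P, U)) • resM L hUV g₀, j, n, hU, hxU, hg.smul_unit u, ?_⟩
    have hres : ∀ r, algebraMap Γ(P, U) Γ(P, B) r = P.presheaf.map (homOfLE hBU).op r := fun r => rfl
    rw [hju, hres, hres, map_mul, map_pow, map_pow, resW_res] at ha
    have hle : U ⊓ D ≤ B := (inf_basicOpen ϖ U).ge
    have h2 := congrArg (resM L hle) (congrArg (resW ϖ B ^ n • ·) hcs)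
    simp only [resM_smul, resM_resM, map_pow, resW_res] at h2
    rw [← h2, smul_smul, resM_smul, smul_smul, resM_resM]
    congr 1
    have h3 := congrArg (P.presheaf.map (homOfLE hle).op) ha
    simp only [map_mul, map_pow, resW_res] at h3
    rw [← ConcreteCategory.comp_apply, ← Functor.map_comp] at h3
    rw [mul_comm]
    exact h3.trans (mul_comm _ _)
  choose U g j n hU hxU hg ht' using hloc
  -- normalised generators
  have hnorm : ∃ j₀ n₀ : ℕ, ∀ x, ¬ U x ≤ D → j x + n₀ = j₀ + n x := by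
    by_cases h : ∃ x, ¬ U x ≤ D
    · obtain ⟨x₀, hx₀⟩ := h
      refine ⟨j x₀, n x₀, fun x hx => ?_⟩
      obtain ⟨y, hy, hyD⟩ := SetLike.not_le_iff_exists.1 (hirr _ _ hx hx₀)
      obtain ⟨W, hW, hyW, hWle⟩ := exists_isAffineOpen_mem_and_subset (x := y) (U := U x ⊓ U x₀) hy
      have hWx : W ≤ U x := fun z hz => (hWle hz).1
      have hWx₀ : W ≤ U x₀ := fun z hz => (hWle hz).2
      have hgx := (hg x).restrict hWx
      have key : resW ϖ W ^ (j x + n x₀) • resM L hWx (g x) = resW ϖ W ^ (j x₀ + n x) • resM L hWx₀ (g x₀) := by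
        refine resM_injective_of_regular hreg hL ?_
        have e1 := congrArg (resM L (inf_le_inf_right D hWx)) (ht' x)
        have e2 := congrArg (resM L (inf_le_inf_right D hWx₀)) (ht' x₀)
        simp only [resM_smul, resM_resM, map_pow, resW_res] at e1 e2
        rw [resM_smul, resM_smul, resM_resM, resM_resM, map_pow, map_pow, resW_res, pow_add, pow_add, mul_comm, mul_smul,
          ← e1, smul_smul, mul_comm _ (resW ϖ (W ⊓ D) ^ n x), mul_smul (resW ϖ (W ⊓ D) ^ n x), e2,
          smul_smul]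
        congr 1
        exact mul_comm _ _
      have hg₀ := (hg x₀).restrict hWx₀
      have hu := hgx.isUnit_coef hg₀
      have hc := hgx.coef_spec le_rfl (resM L hWx₀ (g x₀))
      rw [resM_self] at hc
      generalize hgx.coef le_rfl (resM L hWx₀ (g x₀)) = u at hc hu
      rw [← hc, smul_smul] at key
      have key' : resW ϖ W ^ (j x + n x₀) = resW ϖ W ^ (j x₀ + n x) * u := by
        refine (hgx _ le_rfl).1 ?_
        simpa only [resM_self] using key
      have hnu : ¬ IsUnit (resW ϖ W) := fun h => by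
        have := P.basicOpen_of_isUnit h
        rw [inf_basicOpen] at this
        exact hyD ((this.ge.trans inf_le_right) hyW)
      have hcancel : ∀ (d : ℕ) (a b : Γ(P, W)), resW ϖ W ^ d * a = resW ϖ W ^ d * b → a = b := by
        intro d
        induction d with
        | zero => simp
        | succ d ih =>
          intro a b hab
          refine ih a b (sub_eq_zero.1 (hreg W hW _ ?_))
          rw [mul_sub, ← mul_assoc, ← mul_assoc, ← pow_succ', hab, sub_self]
      rcases lt_trichotomy (j x + n x₀) (j x₀ + n x) with h | h | h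
      · obtain ⟨d, hd⟩ := Nat.exists_eq_add_of_lt h
        rw [hd] at key'
        have : 1 = resW ϖ W * (resW ϖ W ^ d * u) := hcancel (j x + n x₀) _ _ ((mul_one _).trans (key'.trans (by ring)))
        exact absurd (IsUnit.of_mul_eq_one _ this.symm) hnu
      · exact h
      · obtain ⟨d, hd⟩ := Nat.exists_eq_add_of_lt h
        rw [hd] at key'
        have : resW ϖ W * resW ϖ W ^ d = u := hcancel (j x₀ + n x) _ _ (Eq.trans (by ring) key')
        exact absurd (isUnit_of_mul_isUnit_left (this ▸ hu)) hnu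
    · exact ⟨0, 0, fun x hx => absurd ⟨x, hx⟩ h⟩
  obtain ⟨j₀, n₀, hnorm⟩ := hnorm
  have hgen : ∀ x, ∃ g' : Γ(L, U x), IsGen L (U x) g' ∧
      resW ϖ (U x ⊓ D) ^ n₀ • resM L (inf_le_right : U x ⊓ D ≤ D) t = resW ϖ (U x ⊓ D) ^ j₀ • resM L inf_le_left g' := by
    intro x
    by_cases hx : U x ≤ D
    · obtain ⟨v, hv⟩ := ((isUnit_resW ϖ hx).pow j₀).exists_right_inv
      have hu : IsUnit (resW ϖ (U x) ^ n₀ * v) :=
        ((isUnit_resW ϖ hx).pow n₀).mul (IsUnit.of_mul_eq_one_right _ hv)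
      refine ⟨(resW ϖ (U x) ^ n₀ * v) • resM L hx t, (isGen_smul_iff hu).2 (ht.restrict hx), ?_⟩
      rw [resM_smul, resM_resM, smul_smul]
      congr 1
      have h3 := congrArg (P.presheaf.map (homOfLE (inf_le_left : U x ⊓ D ≤ U x)).op) hv
      simp only [map_mul, map_pow, map_one, resW_res] at h3
      rw [map_mul, map_pow, resW_res]
      linear_combination (-(resW ϖ (U x ⊓ D) ^ n₀)) * h3
    · refine ⟨g x, hg x, ?_⟩
      obtain ⟨v, hv⟩ := ((isUnit_resW ϖ (inf_le_right : U x ⊓ D ≤ D)).pow (n x)).exists_left_inv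
      have h1 := congrArg (fun z => (v * resW ϖ (U x ⊓ D) ^ n₀) • z) (ht' x)
      simp only [smul_smul] at h1
      rw [show v * resW ϖ (U x ⊓ D) ^ n₀ * resW ϖ (U x ⊓ D) ^ n x = resW ϖ (U x ⊓ D) ^ n₀ by
        linear_combination (resW ϖ (U x ⊓ D) ^ n₀) * hv] at h1
      rw [h1]
      congr 1
      rw [mul_assoc, ← pow_add, add_comm n₀, hnorm x hx, pow_add]
      linear_combination (resW ϖ (U x ⊓ D) ^ j₀) * hv
  choose g' hg' ht'' using hgen
  have hcov : ⊤ ≤ iSup U := fun x _ => Opens.mem_iSup.2 ⟨x, hxU x⟩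
  obtain ⟨s, hs, -⟩ := TopCat.Sheaf.existsUnique_gluing' (⟨L.presheaf, L.isSheaf⟩ : TopCat.Sheaf Ab P)
    U ⊤ (fun _ => homOfLE le_top) hcov g' (fun x y => by
      show resM L inf_le_left (g' x) = resM L inf_le_right (g' y)
      refine resM_injective_of_regular hreg hL ?_
      rw [resM_resM, resM_resM]
      have e1 := congrArg (resM L (inf_le_inf_right D (inf_le_left : U x ⊓ U y ≤ U x))) (ht'' x)
      have e2 := congrArg (resM L (inf_le_inf_right D (inf_le_right : U x ⊓ U y ≤ U y))) (ht'' y)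
      simp only [resM_smul, resM_resM, map_pow, resW_res] at e1 e2
      obtain ⟨v, hv⟩ := ((isUnit_resW ϖ (inf_le_right : (U x ⊓ U y) ⊓ D ≤ D)).pow j₀).exists_left_inv
      have h3 := congrArg (fun z => v • z) (e1.symm.trans e2)
      simp only [smul_smul, hv, one_smul] at h3
      exact h3)
  have hgs : IsGen L ⊤ s := isGen_of_cover U (fun _ => le_top) hcov fun x =>
    (congrArg (IsGen L (U x)) (hs x)).mpr (hg' x)
  have : IsIso (unitDesc L s) := isIso_of_isGen _ (by rw [unitVal_unitDesc, resM_self]; exact hgs)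
  exact (PicM.of_eq_one_iff hL).2 ⟨(asIso (unitDesc L s)).symm⟩

end Groth.Agent.PicLib
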