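import Groth.Agent.PicLib.FiniteSetTriv
import Groth.Agent.PicLib.PullbackGen

/-!
# Large twists of an invertible module have sections generating at finitely many points
-/

set_option autoImplicit false
set_option backward.isDefEq.respectTransparency.types false

universe u

open CategoryTheory CategoryTheory.Limits AlgebraicGeometry TopologicalSpace
open Groth.Agent.Coherent Groth.Agent.AmpleLib

namespace Groth.Agent.PicLib

variable {X : Scheme.{u}}

/-- For every large `N`, some section of `L ⊗ A^N` generates at all points of a finite set. -/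
theorem exists_twist_gen_of_finite {A L : X.Modules} (hA : CohB1.IsAmple A) (hL : PicF.IsInvertible L)
    (Z : Set X) (hZ : Z.Finite) :
    ∃ N₀ : ℕ, ∀ N : ℕ, N₀ ≤ N → ∃ t : Γ(CohB1.tensorMod L (CohB1.tensorPow A N), ⊤), Z ⊆ glocus _ t := by
  obtain ⟨hAi, hc, haff⟩ := isAmple_iff_affGlocus.1 hA
  have := quasiSeparatedSpace_of_affGlocus hAi haff
  have := hc
  obtain ⟨V₁, hZV₁, hV₁, ⟨eL⟩⟩ := exists_triv_of_finite_of_isAmple hA hL Z hZ
  obtain ⟨V₂, hZV₂, hV₂₁, hV₂, ⟨eA⟩⟩ := exists_triv_of_finite hAi hV₁ Z hZ hZV₁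
  obtain ⟨gL, hgL⟩ := exists_isGen_of_iso eL
  obtain ⟨gA, hgA⟩ := exists_isGen_of_iso eA
  obtain ⟨m, hm, b, hZb, hbV, -⟩ := exists_affine_glocus_finite (U := V₂) hA Z hZ hZV₂
  let W := glocus (CohB1.tensorPow A m) b
  let B := CohB1.tensorPow A m
  have hB : PicF.IsInvertible B := isInvertible_tensorPow hAi m
  have key : ∀ j : ℕ, ∃ n₀ : ℕ, ∀ e : ℕ, ∃ t : Γ(CohB1.tensorMod L (CohB1.tensorPow A (j + m * (n₀ + e))), ⊤),
      W ≤ glocus _ t := by
    intro j
    let M := CohB1.tensorMod L (CohB1.tensorPow A j)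
    have hM : PicF.IsInvertible M := isInvertible_tensorMod hL (isInvertible_tensorPow hAi j)
    have := isQCoh_of_isInvertible hM
    let f : Γ(M, W) := tmul (resM L (hbV.trans hV₂₁) gL) (powSec (resM A hbV gA) j)
    have hf : IsGen M W f := isGen_tmul (hgL.restrict _) (isGen_powSec (hgA.restrict _) j)
    obtain ⟨n, t, ht⟩ := exists_extend (L := B) M b hB f
    have htW : W ≤ glocus _ t := by
      rw [le_glocus_iff, ht]
      exact isGen_tmul hf (isGen_powSec (isGen_glocus b) n)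
    refine ⟨n, fun e => ?_⟩
    obtain ⟨e₁, -⟩ := exists_assocIso hM (isInvertible_tensorPow hB n) (isInvertible_tensorPow hB e)
    obtain ⟨e₂, -⟩ := exists_powIso hB n e
    obtain ⟨e₃, -⟩ := exists_powPowIso hAi m (n + e)
    obtain ⟨e₄, -⟩ := exists_assocIso hL (isInvertible_tensorPow hAi j) (isInvertible_tensorPow hAi (m * (n + e)))
    obtain ⟨e₅, -⟩ := exists_powIso hAi j (m * (n + e))
    let E : CohB1.tensorMod (CohB1.tensorMod M (CohB1.tensorPow B n)) (CohB1.tensorPow B e) ≅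
        CohB1.tensorMod L (CohB1.tensorPow A (j + m * (n + e))) :=
      e₁ ≪≫ tensorIso (Iso.refl M) (e₂ ≪≫ e₃) ≪≫ e₄ ≪≫ tensorIso (Iso.refl L) e₅
    refine ⟨E.hom.app ⊤ (tmul t (powSec b e)), ?_⟩
    rw [glocus_map_iso, glocus_tmul (isInvertible_tensorMod hM (isInvertible_tensorPow hB n))
      (isInvertible_tensorPow hB e)]
    refine le_inf htW ?_
    rw [le_glocus_iff, resM_powSec]
    exact isGen_powSec (isGen_glocus b) e
  choose n₀ hn₀ using key
  refine ⟨∑ j ∈ Finset.range m, (j + m * n₀ j), fun N hN => ?_⟩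
  let j := N % m
  have hj : j ∈ Finset.range m := Finset.mem_range.2 (Nat.mod_lt _ hm)
  have hle : j + m * n₀ j ≤ N :=
    (Finset.single_le_sum (f := fun j => j + m * n₀ j) (fun i _ => Nat.zero_le _) hj).trans hN
  have hN' : N = j + m * (N / m) := (Nat.mod_add_div N m).symm
  have hq : n₀ j ≤ N / m := by
    have : m * n₀ j ≤ m * (N / m) := by omega
    exact Nat.le_of_mul_le_mul_left this hm
  obtain ⟨e, he⟩ := Nat.exists_eq_add_of_le hq
  rw [hN', he]
  obtain ⟨t, ht⟩ := hn₀ j e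
  exact ⟨t, hZb.trans ht⟩

end Groth.Agent.PicLib
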